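import Cfsg.Agent.Lib.OWagner.Homology
import Mathlib

/-!
In a system of homologies some line has elations with every centre on it, or some point elations
with every axis through it.
-/

set_option autoImplicit false
set_option linter.unusedSectionVars false

namespace CfsgLib.OWagner.Pl

open MulAction

variable {P L : Type*} (π : Pl P L)

/-- A line with a nontrivial elation at each of its points. -/
def Full (G : Type*) [Group G] [MulAction G P] [MulAction G L] (l : L) : Prop :=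
  ∀ Y, π.mem Y l → ∃ g : G, g ≠ 1 ∧ π.IsEl g Y l

/-- A centre with only one axis, which has only this centre. -/
def Du (G : Type*) [Group G] [MulAction G P] [MulAction G L] (O : P) (l : L) : Prop :=
  (∃ g : G, π.IsHom g O l) ∧ (∀ (g : G) (m : L), π.IsHom g O m → m = l) ∧
    ∀ (g : G) (C : P), π.IsHom g C l → C = O

variable {π} {G : Type*} [Group G] [MulAction G P] [MulAction G L]
variable [Finite P] [Finite L] [Finite G] [FaithfulSMul G P]

theorem du_dual {O : P} {l : L} (h : π.Du G O l) : π.dual.Du G l O := by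
  obtain ⟨⟨g, hg⟩, h1, h2⟩ := h
  exact ⟨⟨g, π.isHom_dual.mpr hg⟩, fun g m hm => h2 g m (π.isHom_dual.mp hm),
    fun g C hC => h1 g C (π.isHom_dual.mp hC)⟩

theorem du_conj (hG : π.Inv G) {O : P} {l : L} (h : π.Du G O l) (k : G) : π.Du G (k • O) (k • l) := by
  obtain ⟨⟨g, hg⟩, h1, h2⟩ := h
  refine ⟨⟨_, π.isHom_conj hG hg k⟩, fun g' m hm => ?_, fun g' C hC => ?_⟩
  · have := π.isHom_conj hG hm k⁻¹
    rw [inv_smul_smul] at this
    rw [← h1 _ _ this, smul_inv_smul]
  · have := π.isHom_conj hG hC k⁻¹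
    rw [inv_smul_smul] at this
    rw [← h2 _ _ this, smul_inv_smul]

theorem el_line_fix (hG : π.Inv G) {g : G} {C : P} {l m : L} (hg : π.IsEl g C l) (h1 : g ≠ 1)
    (hm : g • m = m) : π.mem C m :=
  haveI := π.faithful_dual hG
  by_contra fun h => h1 (π.dual.el_fix_off (π.inv_dual hG) (π.isEl_dual.mpr hg) (Z := m) h hm)

theorem two_axes_el (hG : π.Inv G) {g h : G} {C : P} {l l' : L} (hg : π.IsHom g C l)
    (hh : π.IsHom h C l') (hne : l ≠ l') : g * h ≠ 1 ∧ ∃ N, π.IsEl (g * h) C N := by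
  haveI := π.faithful_dual hG
  obtain ⟨h1, N, hN⟩ := π.dual.hom_mul_isEl (π.inv_dual hG) (π.isHom_dual.mpr hg) (π.isHom_dual.mpr hh) hne
  exact ⟨h1, N, π.isEl_dual.mp hN⟩

theorem el_centre_of_axis (hG : π.Inv G) {e g : G} {O Y : P} {l M : L} (he : π.IsEl e O l) (he1 : e ≠ 1)
    (hY : π.mem Y l) (hg : π.IsHom g Y M) (hO : ¬ π.mem O M) : ∃ f : G, f ≠ 1 ∧ π.IsEl f Y l := by
  have hg' := π.isHom_conj hG hg e
  rw [he.1 Y hY] at hg'
  obtain ⟨hne, N, hN⟩ := two_axes_el hG hg hg' fun h => hO (el_line_fix hG he he1 h.symm)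
  refine ⟨_, hne, ?_⟩
  have hQe : e • π.meet M l = π.meet M l := he.1 _ (π.meet_right M l)
  have hQe' : π.mem (π.meet M l) (e • M) := by
    have := π.mem_smul hG (g := e) (π.meet_left M l)
    rwa [hQe] at this
  have hQ : π.mem (π.meet M l) N := by_contra fun h => hne (π.el_fix_off hG hN h (by
    rw [mul_smul, hg'.2.2.1 _ hQe', hg.2.2.1 _ (π.meet_left M l)]))
  have hQY : π.meet M l ≠ Y := fun h => hg.2.2.2.2 (h ▸ π.meet_left M l)
  rwa [π.eq_line hQY hQ hN.2.2 (π.meet_right M l) hY] at hN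

variable (S : π.HomSys G)
include S

theorem full_of_two {e e' : G} {O O' : P} {l : L} (he : π.IsEl e O l) (he1 : e ≠ 1)
    (he' : π.IsEl e' O' l) (he1' : e' ≠ 1) (hne : O ≠ O') : π.Full G l := fun Y hY => by
  obtain ⟨g, M, hg⟩ := point_centre S Y
  by_cases hO : π.mem O M
  · refine el_centre_of_axis S.inv he' he1' hY hg fun hO' => hg.2.2.2.2 ?_
    exact π.eq_line hne he.2.2 he'.2.2 hO hO' ▸ hY
  · exact el_centre_of_axis S.inv he he1 hY hg hO

theorem du_fix {O : P} {l : L} (h : π.Du G O l) {k : G} (hk : k • O = O) : k • l = l := by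
  obtain ⟨⟨g, hg⟩, h1, -⟩ := h
  have := π.isHom_conj S.inv hg k
  rw [hk] at this
  exact h1 _ _ this

theorem du_fix' {O : P} {l : L} (h : π.Du G O l) {k : G} (hk : k • l = l) : k • O = O :=
  haveI := π.faithful_dual S.inv
  du_fix S.dual (du_dual h) hk

theorem du_axis_mem {O W : P} {l M : L} (h : π.Du G O l) (hW : π.mem W l) {g : G}
    (hg : π.IsHom g W M) : π.mem O M :=
  (fix_hom S hg (du_fix' S h (hg.2.2.2.1 l hW))).resolve_left fun e => by
    obtain ⟨⟨a, ha⟩, -, -⟩ := h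
    exact ha.2.2.2.2 (e ▸ hW)

theorem du_centre_mem {O C : P} {l N : L} (h : π.Du G O l) (hN : π.mem O N) {g : G}
    (hg : π.IsHom g C N) : π.mem C l :=
  haveI := π.faithful_dual S.inv
  du_axis_mem S.dual (du_dual h) hN (π.isHom_dual.mpr hg)

theorem du_general {O Z : P} {l : L} (h : π.Du G O l) (hZl : ¬ π.mem Z l) (hZO : Z ≠ O) :
    ∃ W, π.mem W l ∧ π.Du G W (π.line O Z) ∧ ∀ (g : G) (M : L), π.IsHom g Z M → π.mem W M := by
  have key : ∀ (k : G) (M : L), π.IsHom k Z M → π.Du G (π.meet l M) (π.line O Z) := by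
    intro k M hk
    have hkl : k • l ≠ l := fun e => by
      rcases line_fix_hom S hk e with rfl | h'
      · exact hZO (h.2.2 k Z hk)
      · exact hZl h'
    have hkO : k • O ≠ O := fun e => hkl (du_fix S h e)
    have hkk : k • k • O = O := by rw [← mul_smul, hk.1, one_smul]
    have hN : π.line O Z = π.line O (k • O) := by
      have hfix : k • π.line O (k • O) = π.line O (k • O) := by
        rw [π.smul_line S.inv k hkO.symm, hkk, π.line_comm hkO]
      rcases line_fix_hom S hk hfix with e | e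
      · exact absurd (hk.2.2.1 O (e ▸ π.left_mem O (k • O))) hkO
      · exact π.line_unique hZO.symm (π.left_mem O (k • O)) e
    set W := π.meet l M
    have hW : π.mem W (k • l) := by
      have := π.mem_smul S.inv (g := k) (π.meet_left l M)
      rwa [hk.2.2.1 _ (π.meet_right l M)] at this
    have hdu := du_conj S.inv h k
    rw [hN]
    have hu : ∀ (g : G) (m : L), π.IsHom g W m → m = π.line O (k • O) := fun g m hg =>
      (π.line_unique hkO.symm (du_axis_mem S h (π.meet_left l M) hg) (du_axis_mem S hdu hW hg)).symm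
    refine ⟨?_, hu, fun g C hg => ?_⟩
    · obtain ⟨a, A, ha⟩ := point_centre S W
      exact ⟨a, hu a A ha ▸ ha⟩
    · exact π.eq_point hkl.symm (du_centre_mem S h (π.left_mem _ _) hg)
        (du_centre_mem S hdu (π.right_mem _ _) hg) (π.meet_left l M) hW
  obtain ⟨k, M, hk⟩ := point_centre S Z
  refine ⟨π.meet l M, π.meet_left l M, key k M hk, fun g M' hg => ?_⟩
  obtain ⟨⟨a, ha⟩, -, -⟩ := key g M' hg
  exact (key k M hk).2.2 a _ ha ▸ π.meet_right l M'

theorem du_line {O : P} {l N : L} (h : π.Du G O l) (hN : π.mem O N) : ∃ W, π.mem W l ∧ π.Du G W N := by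
  obtain ⟨Z, hZ, hZO, hZl⟩ := π.exists_third N O (π.meet N l)
  obtain ⟨⟨a, ha⟩, -, -⟩ := id h
  have hNl : N ≠ l := fun e => ha.2.2.2.2 (e ▸ hN)
  obtain ⟨W, hW, hdu, -⟩ := du_general S h (fun e => hZl (π.meet_unique hNl hZ e).symm) hZO
  exact ⟨W, hW, π.line_unique hZO.symm hN hZ ▸ hdu⟩

theorem not_du {O : P} {l : L} (h : π.Du G O l) : False := by
  refine not_all_unique S fun g g' C M M' hg hg' => ?_
  obtain ⟨⟨a, ha⟩, hO, -⟩ := id h
  rcases eq_or_ne C O with rfl | hCO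
  · rw [hO _ _ hg, hO _ _ hg']
  by_cases hCl : π.mem C l
  · obtain ⟨W, -, hdu⟩ := du_line S h (du_axis_mem S h hCl hg)
    obtain rfl := hdu.2.2 g C hg
    exact (hdu.2.1 g' M' hg').symm
  obtain ⟨W₁, hW₁, -, h₁⟩ := du_general S h hCl hCO
  obtain ⟨X, hX, hX1, hX2⟩ := π.exists_third l (π.meet l (π.line O C)) W₁
  have hOX : O ≠ X := fun e => ha.2.2.2.2 (e ▸ hX)
  obtain ⟨W', hW', hdu⟩ := du_line S h (π.left_mem O X)
  have hlOX : l ≠ π.line O X := fun e => ha.2.2.2.2 (e ▸ π.left_mem O X)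
  have hCX : ¬ π.mem C (π.line O X) := fun e => hX1 (by
    rw [π.line_unique hCO.symm (π.left_mem O X) e, π.meet_unique hlOX hX (π.right_mem O X)])
  obtain ⟨W₂, hW₂, -, h₂⟩ := du_general S hdu hCX fun e => hCl (e ▸ hW')
  have hne : W₁ ≠ W₂ := fun e => hX2 (π.eq_point hlOX hX (π.right_mem O X) hW₁ (e ▸ hW₂))
  exact π.eq_line hne (h₁ g M hg) (h₂ g M hg) (h₁ g' M' hg') (h₂ g' M' hg')

theorem exists_full : (∃ l, π.Full G l) ∨ ∃ X, π.dual.Full G X := by
  haveI := π.faithful_dual S.inv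
  by_contra hcon
  simp only [not_or, not_exists] at hcon
  obtain ⟨hL, hP⟩ := hcon
  have u1 : ∀ {e e' : G} {O O' : P} {l : L}, π.IsEl e O l → e ≠ 1 → π.IsEl e' O' l → e' ≠ 1 → O = O' :=
    fun h1 h2 h3 h4 => by_contra fun h => hL _ (full_of_two S h1 h2 h3 h4 h)
  have u2 : ∀ {e e' : G} {O : P} {l l' : L}, π.IsEl e O l → e ≠ 1 → π.IsEl e' O l' → e' ≠ 1 → l = l' :=
    fun h1 h2 h3 h4 => by_contra fun h =>
      hP _ (full_of_two S.dual (π.isEl_dual.mpr h1) h2 (π.isEl_dual.mpr h3) h4 h)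
  obtain ⟨e, O, l, he1, he⟩ : ∃ (e : G) (O : P) (l : L), e ≠ 1 ∧ π.IsEl e O l := by
    by_contra hno
    refine not_all_unique S fun g g' C M M' hg hg' => by_contra fun hne => ?_
    obtain ⟨h1, N, hN⟩ := two_axes_el S.inv hg hg' hne
    exact hno ⟨_, C, N, h1, hN⟩
  obtain ⟨Y, hY, hYO, -⟩ := π.exists_third l O O
  obtain ⟨g, M, hg⟩ := point_centre S Y
  have hOM : π.mem O M := by_contra fun hn => by
    obtain ⟨f, hf1, hf⟩ := el_centre_of_axis S.inv he he1 hY hg hn
    exact hYO (u1 hf hf1 he he1)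
  have hlM : l ≠ M := fun e => hg.2.2.2.2 (e ▸ hY)
  refine not_du S (O := Y) (l := M) ⟨⟨g, hg⟩, fun g' M' hg' => by_contra fun hne => ?_,
    fun g' C hg' => by_contra fun hne => ?_⟩
  · obtain ⟨hf1, N, hf⟩ := two_axes_el S.inv hg hg' (Ne.symm hne)
    have hc := π.isEl_conj S.inv hf e
    rw [he.1 Y hY] at hc
    have hON : π.mem O N :=
      el_line_fix S.inv he he1 (u2 hc (fun h => hf1 (conj_eq_one_iff.mp h)) hf hf1)
    obtain rfl := π.eq_line hYO hf.2.2 hON hY he.2.2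
    exact hYO (u1 hf hf1 he he1)
  · obtain ⟨hf1, D, hf⟩ := π.hom_mul_isEl S.inv hg hg' (Ne.symm hne)
    have hDO : D ≠ O := fun e' => hlM (u2 he he1 (e' ▸ hf) hf1)
    have hDl : ¬ π.mem D l := fun e' => hDO (π.eq_point hlM e' hf.2.2 he.2.2 hOM)
    have hc := π.isEl_conj S.inv he (g * g')
    rw [hf.1 O hOM] at hc
    exact hDl (el_line_fix S.inv hf hf1 (u2 hc (fun h => he1 (conj_eq_one_iff.mp h)) he he1))

end CfsgLib.OWagner.Pl
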