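import Cfsg.Agent.Lib.OWagner.Collineation
import Cfsg.Agent.Lib.Perm.StepTransitive
import Mathlib

/-!
Two-transitive collineation groups: orbits on pairs of lines and on anti-flags, Sylow orbits, and
the group of collineations induced on a second plane.
-/

set_option autoImplicit false
set_option linter.unusedSectionVars false

namespace CfsgLib.OWagner

open MulAction

/-- The permutations induced on two sets. -/
def Img (N X Y : Type*) [Group N] [MulAction N X] [MulAction N Y] :
    Subgroup (Equiv.Perm X × Equiv.Perm Y) :=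
  ((toPermHom N X).prod (toPermHom N Y)).range

section
variable {N X Y : Type*} [Group N] [MulAction N X] [MulAction N Y]

instance imgLeft : MulAction (Img N X Y) X where
  smul g x := g.1.1 x
  one_smul _ := rfl
  mul_smul _ _ _ := rfl

instance imgRight : MulAction (Img N X Y) Y where
  smul g x := g.1.2 x
  one_smul _ := rfl
  mul_smul _ _ _ := rfl

/-- The induced permutation. -/
def toImg : N →* Img N X Y := ((toPermHom N X).prod (toPermHom N Y)).rangeRestrict

theorem toImg_surjective : Function.Surjective (toImg : N →* Img N X Y) :=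
  MonoidHom.rangeRestrict_surjective _

theorem toImg_smul (n : N) (x : X) : (toImg n : Img N X Y) • x = n • x := rfl

theorem toImg_smul' (n : N) (y : Y) : (toImg n : Img N X Y) • y = n • y := rfl

theorem inv_img (σ : Pl X Y) (h : σ.Inv N) : σ.Inv (Img N X Y) := fun g p l => by
  obtain ⟨n, rfl⟩ := toImg_surjective g
  exact h n p l

theorem img_faithful [Finite X] [Finite Y] (σ : Pl X Y) (h : σ.Inv N) : FaithfulSMul (Img N X Y) X :=
  faithfulSMul_iff.mpr fun g hg => Subtype.ext (Prod.ext (Equiv.ext hg)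
    (Equiv.ext (σ.lineFix_of_forall (inv_img σ h) hg)))

theorem toImg_eq_one [Finite X] [Finite Y] (σ : Pl X Y) (h : σ.Inv N) {n : N} (hn : ∀ x : X, n • x = x) :
    (toImg n : Img N X Y) = 1 :=
  haveI := img_faithful σ h
  FaithfulSMul.eq_of_smul_eq_smul fun x : X => (hn x).trans (one_smul (Img N X Y) x).symm

end

theorem isPGroup_zpowers {G : Type*} [Group G] {p a : ℕ} {y : G} (h : y ^ p ^ a = 1) :
    IsPGroup p (Subgroup.zpowers y) := fun ⟨w, hw⟩ => ⟨a, Subtype.ext (by
  obtain ⟨i, rfl⟩ := Subgroup.mem_zpowers_iff.mp hw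
  show (y ^ i) ^ p ^ a = 1
  rw [← zpow_natCast (y ^ i), ← zpow_mul, mul_comm, zpow_mul, zpow_natCast, h, one_zpow])⟩

/-- An element of prime order lifts to one of prime power order. -/
theorem exists_lift {N K : Type*} [Group N] [Finite N] [Group K] {f : N →* K} (hf : Function.Surjective f)
    {q : ℕ} (hq : q.Prime) {k : K} (hk : k ^ q = 1) (hk1 : k ≠ 1) :
    ∃ (y : N) (a : ℕ), y ^ q ^ a = 1 ∧ f y = k := by
  obtain ⟨x, rfl⟩ := hf k
  obtain ⟨a, b, hb, hxab⟩ := Nat.exists_eq_pow_mul_and_not_dvd (orderOf_pos x).ne' q hq.ne_one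
  have hco : Nat.Coprime b q := ((Nat.Prime.coprime_iff_not_dvd hq).mpr hb).symm
  obtain ⟨c, hc⟩ := exists_pow_eq_self_of_coprime (x := f x) (n := b)
    (by rw [(orderOf_eq_prime_iff (p := q) (hp := ⟨hq⟩)).mpr ⟨hk, hk1⟩]; exact hco)
  refine ⟨(x ^ b) ^ c, a, ?_, by rw [map_pow, map_pow, hc]⟩
  rw [← pow_mul, ← pow_mul, show b * (c * q ^ a) = orderOf x * c by rw [hxab]; ring, pow_mul,
    pow_orderOf_eq_one, one_pow]

theorem same_orbit {G A B C : Type*} [Group G] [Finite G] [MulAction G A] [MulAction G B] [MulAction G C]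
    [Finite A] [Finite B] [Finite C]
    (hA : ∀ g : G, (fixedBy A g).ncard = (fixedBy C g).ncard)
    (hB : ∀ g : G, (fixedBy B g).ncard = (fixedBy C g).ncard)
    (h2 : ∀ a b a' b' : C, a ≠ b → a' ≠ b' → ∃ g : G, g • a = a' ∧ g • b = b') [Nontrivial C]
    (R : A → B → Prop) (hR : ∀ (g : G) a b, R a b → R (g • a) (g • b)) {x : A} {y : B} (hxy : ¬ R x y)
    {a a' : A} {b b' : B} (h : R a b) (h' : R a' b') : ∃ g : G, g • a = a' ∧ g • b = b' := by
  classical
  haveI := Fintype.ofFinite G
  haveI := Fintype.ofFinite A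
  haveI := Fintype.ofFinite B
  haveI := Fintype.ofFinite C
  haveI := Fintype.ofFinite (orbitRel.Quotient G (A × B))
  haveI := Fintype.ofFinite (orbitRel.Quotient G (C × C))
  have e1 : ∀ g : G, fixedBy (A × B) g = fixedBy A g ×ˢ fixedBy B g :=
    fun g => by ext ⟨a, b⟩; simp [mem_fixedBy, Prod.smul_mk]
  have e2 : ∀ g : G, fixedBy (C × C) g = fixedBy C g ×ˢ fixedBy C g :=
    fun g => by ext ⟨a, b⟩; simp [mem_fixedBy, Prod.smul_mk]
  have h1 := sum_card_fixedBy_eq_card_orbits_mul_card_group G (A × B)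
  have h3 := sum_card_fixedBy_eq_card_orbits_mul_card_group G (C × C)
  have hfg : ∀ g : G, Fintype.card (fixedBy (A × B) g) = Fintype.card (fixedBy (C × C) g) :=
    fun g => by
      rw [← Nat.card_eq_fintype_card, ← Nat.card_eq_fintype_card, Nat.card_coe_set_eq, Nat.card_coe_set_eq,
        e1, e2, Set.ncard_prod, Set.ncard_prod, hA, hB]
  rw [Finset.sum_congr rfl fun g _ => hfg g, h3] at h1
  have heq : Fintype.card (orbitRel.Quotient G (C × C)) = Fintype.card (orbitRel.Quotient G (A × B)) := by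
    refine Eq.trans ?_ ((Nat.eq_of_mul_eq_mul_right Fintype.card_pos h1).trans ?_) <;>
      exact Fintype.card_congr (Equiv.refl _)
  obtain ⟨p, q, hpq⟩ := exists_pair_ne C
  have hC : Fintype.card (orbitRel.Quotient G (C × C)) ≤ 2 := by
    let f : Bool → orbitRel.Quotient G (C × C) := fun i =>
      if i then Quotient.mk'' (p, p) else Quotient.mk'' (p, q)
    refine (Fintype.card_le_of_surjective f fun o => ?_).trans Fintype.card_bool.le
    induction o using Quotient.inductionOn' with
    | h z =>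
      obtain ⟨a, b⟩ := z
      rcases eq_or_ne a b with rfl | hab
      · obtain ⟨c, hc⟩ := exists_ne a
        obtain ⟨g, rfl, -⟩ := h2 p q a c hpq hc.symm
        exact ⟨true, (Quotient.sound' (mem_orbit (p, p) g)).symm⟩
      · obtain ⟨g, rfl, rfl⟩ := h2 p q a b hpq hab
        exact ⟨false, (Quotient.sound' (mem_orbit (p, q) g)).symm⟩
  by_contra hcon
  let f : Fin 3 → orbitRel.Quotient G (A × B) :=
    ![Quotient.mk'' (a, b), Quotient.mk'' (a', b'), Quotient.mk'' (x, y)]
  have key : ∀ {a a' : A} {b b' : B},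
      (Quotient.mk'' (a, b) : orbitRel.Quotient G (A × B)) = Quotient.mk'' (a', b') →
      ∃ g : G, g • a = a' ∧ g • b = b' := fun {a a' b b'} h => by
    obtain ⟨g, hg⟩ := Quotient.exact' h
    simp only [Prod.smul_mk, Prod.mk.injEq] at hg
    exact ⟨g⁻¹, by rw [← hg.1, inv_smul_smul], by rw [← hg.2, inv_smul_smul]⟩
  have e01 : f 0 ≠ f 1 := fun e => hcon (key e)
  have e02 : f 0 ≠ f 2 := fun e => by
    obtain ⟨g, hg, hg'⟩ := key e
    exact hxy (hg ▸ hg' ▸ hR g _ _ h)
  have e12 : f 1 ≠ f 2 := fun e => by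
    obtain ⟨g, hg, hg'⟩ := key e
    exact hxy (hg ▸ hg' ▸ hR g _ _ h')
  have hinj : Function.Injective f := fun i j hij => by
    fin_cases i <;> fin_cases j <;>
      first
        | rfl
        | exact absurd hij e01
        | exact absurd hij.symm e01
        | exact absurd hij e02
        | exact absurd hij.symm e02
        | exact absurd hij e12
        | exact absurd hij.symm e12
  have h4 := Fintype.card_le_of_injective f hinj
  rw [Fintype.card_fin] at h4
  omega

namespace Pl

variable {P L G : Type*} (π : Pl P L) [Group G] [MulAction G P] [MulAction G L]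

/-- Two-transitivity on the points. -/
def TT (_ : Pl P L) (G : Type*) [Group G] [MulAction G P] : Prop :=
  ∀ a b a' b' : P, a ≠ b → a' ≠ b' → ∃ g : G, g • a = a' ∧ g • b = b'

/-- No collineation but the identity fixes a line pointwise. -/
def NoPersp (G : Type*) [Group G] [MulAction G P] : Prop :=
  ∀ (g : G) (l : L), π.AxisFix g l → g = 1

variable [Finite P] [Finite L]

include π in
theorem nontrivial_points : Nontrivial P :=
  Finite.one_lt_card_iff_nontrivial.mp (by
    rw [π.card_points]
    have := π.two_le_order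
    omega)

theorem card_points_sub : Nat.card P - 1 = π.order * (π.order + 1) := by
  rw [π.card_points, Nat.add_sub_cancel]
  ring

variable (hG : π.Inv G) [Finite G]
include hG

theorem tt_dual (h : π.TT G) : π.dual.TT G := by
  haveI := π.nontrivial_points
  intro a b a' b' hab hab'
  obtain ⟨l, -⟩ : ∃ l : L, π.mem π.quad.choose l := ⟨_, π.left_mem _ π.quad.choose⟩
  exact same_orbit (C := P) (fun g => (π.card_fix_eq hG g).symm) (fun g => (π.card_fix_eq hG g).symm) h
    (fun x y : L => x ≠ y) (fun g x y hxy e => hxy (MulAction.injective g e)) (x := l) (y := l)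
    (fun e => e rfl) hab hab'

theorem tt_antiflag (h : π.TT G) {p p' : P} {l l' : L} (hp : ¬ π.mem p l) (hp' : ¬ π.mem p' l') :
    ∃ g : G, g • p = p' ∧ g • l = l' := by
  haveI := π.nontrivial_points
  exact same_orbit (C := P) (fun _ => rfl) (fun g => (π.card_fix_eq hG g).symm) h
    (fun x y => ¬ π.mem x y) (fun g x y hxy e => hxy ((hG g x y).mp e)) (x := p) (y := π.line p p)
    (fun e => e (π.left_mem p p)) hp hp'

theorem tt_line (h : π.TT G) (l l' : L) : ∃ g : G, g • l = l' := by
  obtain ⟨p, hp⟩ := π.exists_notMem l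
  obtain ⟨p', hp'⟩ := π.exists_notMem l'
  obtain ⟨g, -, hg⟩ := π.tt_antiflag hG h hp hp'
  exact ⟨g, hg⟩

omit hG in
theorem card_group (h : π.TT G) {a b : P} (hab : a ≠ b) :
    Nat.card G = Nat.card P * (Nat.card P - 1) * Nat.card (stabilizer G a ⊓ stabilizer G b : Subgroup G) := by
  classical
  have h1 : (stabilizer G (a, b)).index = {q : P × P | q.1 ≠ q.2}.ncard := by
    rw [index_stabilizer]
    congr 1
    ext ⟨x, y⟩
    constructor
    · rintro ⟨g, e⟩
      simp only [Prod.smul_mk, Prod.mk.injEq] at e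
      exact fun (hxy : x = y) => hab (MulAction.injective g (e.1.trans (hxy.trans e.2.symm)))
    · intro hxy
      obtain ⟨g, rfl, rfl⟩ := h a b x y hab hxy
      exact ⟨g, rfl⟩
  have h2 : {q : P × P | q.1 ≠ q.2}.ncard = Nat.card P * (Nat.card P - 1) := by
    have hd : {q : P × P | q.1 ≠ q.2} = (Set.range fun p : P => (p, p))ᶜ := by
      ext ⟨x, y⟩
      simp [eq_comm]
    rw [hd, Set.ncard_compl, Nat.card_prod, Set.ncard_range_of_injective (fun p q e => congrArg Prod.fst e),
      Nat.mul_sub_left_distrib, mul_one]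
  have h3 : stabilizer G (a, b) = stabilizer G a ⊓ stabilizer G b := by
    ext g
    simp [Prod.smul_mk]
  rw [← h2, ← h1, h3, Subgroup.index_mul_card]

omit hG in
/-- An invariant set of a Sylow subgroup fixing a point off it. -/
theorem sylow_dvd (h : π.TT G) {q k : ℕ} [Fact q.Prime] (hk : q ^ k ∣ Nat.card P - 1) (S : Sylow q G) {a : P}
    (ha : ∀ g ∈ S.1, g • a = a) (A : Set P) (hA : ∀ g ∈ S.1, ∀ x ∈ A, g • x ∈ A) (haA : a ∉ A) :
    q ^ k ∣ A.ncard := by
  refine Cfsg.Agent.Lib.Perm.dvd_ncard_of_orbits (G := S.1) A A.toFinite (fun g x hx => hA g.1 g.2 x hx)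
    fun x hx => ?_
  obtain ⟨j, hj⟩ := (S.isPGroup'.to_subgroup (stabilizer S.1 x)).exists_card_eq
  have hdvd : Nat.card (stabilizer S.1 x) ∣ Nat.card (stabilizer G a ⊓ stabilizer G x : Subgroup G) := by
    rw [← Subgroup.card_map_of_injective (S.1.subtype_injective) (K := stabilizer S.1 x)]
    refine Subgroup.card_dvd_of_le ?_
    rintro g ⟨⟨s, hs⟩, hsx, rfl⟩
    exact ⟨ha s hs, hsx⟩
  have hG' : q ^ (k + j) ∣ Nat.card G := by
    rw [π.card_group h (fun e : a = x => haA (e ▸ hx)), pow_add]
    exact mul_dvd_mul (hk.mul_left _) (hj ▸ hdvd)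
  have h1 := S.pow_dvd_card_of_pow_dvd_card hG'
  rw [← Subgroup.index_mul_card (stabilizer S.1 x), index_stabilizer, hj, pow_add] at h1
  exact (Nat.mul_dvd_mul_iff_right (pow_pos (Fact.out (p := q.Prime)).pos j)).mp h1

end Pl

end CfsgLib.OWagner
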