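import Cfsg.Agent.Lib.OWagner.Elation
import Cfsg.Agent.Lib.OWagner.Setting
import Mathlib

/-!
In a two-transitive plane of prime power order without perspectivities no element of that prime
order fixes two points, once smaller such planes have elations.
-/

set_option autoImplicit false
set_option linter.unusedSectionVars false

namespace CfsgLib.OWagner.Pl

open MulAction

variable {P L G : Type*} [Group G] [MulAction G P] [MulAction G L] [Finite P] [Finite L] [Finite G]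
  [FaithfulSMul G P] (π : Pl P L) (hG : π.Inv G) (h2 : π.TT G) {p k : ℕ} [Fact p.Prime]
  (hn : π.order = p ^ k) (hk : k ≠ 0)
include hG h2 hn hk

theorem prime_dvd_order : p ∣ π.order := hn ▸ dvd_pow_self p hk

theorem not_dvd_card_points : ¬ p ∣ Nat.card P := fun h => (Fact.out (p := p.Prime)).not_dvd_one (by
  have h1 := π.prime_dvd_order hG h2 hn hk
  rw [π.card_points] at h
  exact (Nat.dvd_add_right (dvd_add (h1.pow two_ne_zero) h1)).mp h)

theorem exists_sylow_fix (W : Subgroup G) (hW : IsPGroup p W) {a : P} (ha : ∀ w ∈ W, w • a = a) :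
    ∃ S : Sylow p G, W ≤ S.1 ∧ ∀ g ∈ S.1, g • a = a := by
  haveI := π.nontrivial_points
  obtain ⟨S₀, hS₀⟩ :=
    (hW.of_equiv (Subgroup.subgroupOfEquivOfLe (K := stabilizer G a) ha).symm).exists_le_sylow
  set T := S₀.1.map (stabilizer G a).subtype
  obtain ⟨S, hS⟩ := (S₀.isPGroup'.map (stabilizer G a).subtype).exists_le_sylow
  have hWT : W ≤ T := fun w hw =>
    ⟨⟨w, ha w hw⟩, hS₀ (show (⟨w, ha w hw⟩ : stabilizer G a) ∈ W.subgroupOf _ from hw), rfl⟩
  refine ⟨S, hWT.trans hS, fun g hg => ?_⟩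
  obtain ⟨i, hi⟩ := S.isPGroup'.exists_card_eq
  have horb : orbit G a = Set.univ := Set.eq_univ_of_forall fun b => by
    obtain ⟨c, hc⟩ := exists_ne a
    obtain ⟨d, hd⟩ := exists_ne b
    obtain ⟨g, hg, -⟩ := h2 a c b d hc.symm hd.symm
    exact ⟨g, hg⟩
  have h1 : p ^ i ∣ Nat.card P * Nat.card (stabilizer G a) := by
    rw [← Set.ncard_univ, ← horb, ← index_stabilizer, Subgroup.index_mul_card, ← hi]
    exact Subgroup.card_subgroup_dvd_card _
  have h3 : p ^ i ∣ Nat.card (stabilizer G a) := (Nat.Coprime.pow_left i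
    ((Nat.Prime.coprime_iff_not_dvd Fact.out).mpr (π.not_dvd_card_points hG h2 hn hk))).dvd_of_dvd_mul_left h1
  have h4 := S₀.pow_dvd_card_of_pow_dvd_card h3
  have hTc : Nat.card T = Nat.card S₀.1 := Subgroup.card_map_of_injective (Subgroup.subtype_injective _)
  have heq : T = S.1 := Subgroup.eq_of_le_of_card_ge hS (by
    rw [hi, hTc]
    exact Nat.le_of_dvd Nat.card_pos h4)
  obtain ⟨s, -, rfl⟩ : g ∈ T := heq ▸ hg
  exact s.2

variable (hno : π.NoPersp G)
include hno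

theorem exists_central (W : Subgroup G) (hW : IsPGroup p W) {a : P} (ha : ∀ w ∈ W, w • a = a) :
    ∃ z : G, (∀ w ∈ W, z * w = w * z) ∧ ∀ b, z • b = b ↔ b = a := by
  obtain ⟨S, hWS, hS⟩ := π.exists_sylow_fix hG h2 hn hk W hW ha
  have hp := π.prime_dvd_order hG h2 hn hk
  letI : MulAction S.1 {l // π.mem a l} :=
    { smul := fun g l => ⟨g.1 • l.1, by
        have := π.mem_smul hG (g := g.1) l.2
        rwa [hS g.1 g.2] at this⟩
      one_smul := fun l => Subtype.ext (one_smul G l.1)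
      mul_smul := fun g h l => Subtype.ext (mul_smul g.1 h.1 l.1) }
  obtain ⟨⟨l, hal⟩, hl⟩ := S.isPGroup'.nonempty_fixed_point_of_prime_not_dvd_card {l // π.mem a l} (by
    rw [← Set.coe_setOf, Nat.card_coe_set_eq, π.ncard_pencil]
    exact fun h => (Fact.out (p := p.Prime)).not_dvd_one ((Nat.dvd_add_right hp).mp h))
  have hl' : ∀ g ∈ S.1, g • l = l := fun g hg => congrArg Subtype.val (hl ⟨g, hg⟩)
  have hS1 : S.1 ≠ ⊥ := S.ne_bot_of_dvd_card (by
    haveI := π.nontrivial_points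
    obtain ⟨b, hb⟩ := exists_ne a
    rw [π.card_group h2 hb, π.card_points_sub]
    exact ((hp.mul_right _).mul_left _).mul_right _)
  haveI : Nontrivial S.1 := (Subgroup.nontrivial_iff_ne_bot _).mpr hS1
  haveI := S.isPGroup'.center_nontrivial
  obtain ⟨⟨⟨z, hzS⟩, hzc⟩, hz⟩ := exists_ne (1 : Subgroup.center S.1)
  have hz1 : z ≠ 1 := fun e => hz (Subtype.ext (Subtype.ext e))
  have hcomm : ∀ g ∈ S.1, g * z = z * g := fun g hg =>
    congrArg Subtype.val (Subgroup.mem_center_iff.mp hzc ⟨g, hg⟩)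
  refine ⟨z, fun w hw => (hcomm w (hWS hw)).symm, fun b => ⟨fun hb => ?_, fun e => e ▸ hS z hzS⟩⟩
  have hzl : z • l = l := hl' z hzS
  have hpk : p ^ k ∣ Nat.card P - 1 := by
    rw [π.card_points_sub, hn]
    exact dvd_mul_right _ _
  -- the fixed points of `z` on `l`
  have hA : ∀ x, π.mem x l → z • x = x → x = a := fun x hx hzx => by_contra fun hxa => by
    set A := {q | π.mem q l ∧ z • q = q ∧ q ≠ a}
    have hd : p ^ k ∣ A.ncard := π.sylow_dvd h2 hpk S hS A (fun g hg q ⟨h1, h3, h4⟩ => by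
      refine ⟨?_, ?_, fun e => h4 (MulAction.injective g (e.trans (hS g hg).symm))⟩
      · have := π.mem_smul hG (g := g) h1
        rwa [hl' g hg] at this
      · rw [← mul_smul, ← hcomm g hg, mul_smul, h3]) (fun h => h.2.2 rfl)
    have hpos : 0 < A.ncard := (Set.ncard_pos).mpr ⟨x, hx, hzx, hxa⟩
    have hge := Nat.le_of_dvd hpos hd
    have heq : A = {q | π.mem q l} \ {a} := Set.eq_of_subset_of_ncard_le (fun q hq => ⟨hq.1, hq.2.2⟩) (by
      rw [Set.ncard_sdiff_singleton_of_mem (show a ∈ {q | π.mem q l} from hal), π.ncard_line, hn]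
      omega)
    refine hz1 (hno z l fun q hq => ?_)
    by_cases hqa : q = a
    · exact hqa ▸ hS z hzS
    · exact ((show q ∈ A from heq ▸ ⟨hq, hqa⟩) : _ ∧ _ ∧ _).2.1
  -- the fixed lines of `z` through `a`
  have hB : ∀ m, π.mem a m → z • m = m → m = l := fun m hm hzm => by_contra fun hml => by
    set B := {m | π.mem a m ∧ z • m = m ∧ m ≠ l}
    have hd : p ^ k ∣ B.ncard := π.dual.sylow_dvd (π.tt_dual hG h2)
      (by rw [π.dual.card_points_sub, π.dual_order, hn]; exact dvd_mul_right _ _) S hl' B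
      (fun g hg q ⟨h1, h3, h4⟩ => by
      refine ⟨?_, ?_, fun e => h4 (MulAction.injective g (e.trans (hl' g hg).symm))⟩
      · have := π.mem_smul hG (g := g) h1
        rwa [hS g hg] at this
      · rw [← mul_smul, ← hcomm g hg, mul_smul, h3]) (fun h => h.2.2 rfl)
    have hpos : 0 < B.ncard := (Set.ncard_pos).mpr ⟨m, hm, hzm, hml⟩
    have hge := Nat.le_of_dvd hpos hd
    have heq : B = {q | π.mem a q} \ {l} := Set.eq_of_subset_of_ncard_le (fun q hq => ⟨hq.1, hq.2.2⟩) (by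
      rw [Set.ncard_sdiff_singleton_of_mem (show l ∈ {q | π.mem a q} from hal), π.ncard_pencil, hn]
      omega)
    obtain ⟨l', hl''⟩ := π.exists_axis hG (g := z) (C := a) fun q hq => by
      by_cases hql : q = l
      · exact hql ▸ hzl
      · exact ((show q ∈ B from heq ▸ ⟨hq, hql⟩) : _ ∧ _ ∧ _).2.1
    exact hz1 (hno z l' hl'')
  by_contra hba
  refine hba (hA b ?_ hb)
  rw [← hB (π.line a b) (π.left_mem a b) (π.smul_line_eq hG (Ne.symm hba) (hS z hzS) hb)]
  exact π.right_mem a b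

theorem not_larger (M : Subgroup G) (hM : IsPGroup p M) (hMq : π.QuadFix M)
    (hmax : ∀ V : Subgroup G, M ≤ V → IsPGroup p V → π.QuadFix V → V ≤ M) {X Y : P} (hXY : X ≠ Y)
    (W : Subgroup G) (hMW : M < W) (hW : IsPGroup p W) (hWX : ∀ w ∈ W, w • X = X)
    (hWY : ∀ w ∈ W, w • Y = Y) : False := by
  classical
  haveI := hW.isNilpotent
  set M' := M.subgroupOf W
  have hM' : M' < ⊤ := lt_top_iff_ne_top.mpr fun e => hMW.not_ge (Subgroup.subgroupOf_eq_top.mp e)
  obtain ⟨⟨x, hxW⟩, hxn, hxM⟩ := SetLike.exists_of_lt (normalizerCondition_of_isNilpotent M' hM')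
  have hxN : x ∈ Subgroup.normalizer (M : Set G) := by
    refine Subgroup.mem_normalizer_iff.mpr fun g => ⟨fun hg => ?_, fun hg => ?_⟩
    · exact (Subgroup.mem_normalizer_iff.mp hxn ⟨g, hMW.le hg⟩).mp hg
    · have hgW : g ∈ W := by
        have := mul_mem (mul_mem (inv_mem hxW) (hMW.le hg)) hxW
        rwa [show x⁻¹ * (x * g * x⁻¹) * x = g by group] at this
      exact (Subgroup.mem_normalizer_iff.mp hxn ⟨g, hgW⟩).mpr hg
  set V := M ⊔ Subgroup.zpowers x
  have hVW : V ≤ W := sup_le hMW.le (Subgroup.zpowers_le.mpr hxW)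
  have hV : IsPGroup p V := hW.to_le hVW
  have hxV : x ∈ V := Subgroup.mem_sup_right (Subgroup.mem_zpowers x)
  have hVq : ¬ π.QuadFix V := fun h => hxM (show x ∈ M from hmax V le_sup_left hV h hxV)
  set F : Set P := {q | ∀ v ∈ V, v • q = q}
  have hXF : X ∈ F := fun v hv => hWX v (hVW hv)
  have hYF : Y ∈ F := fun v hv => hWY v (hVW hv)
  obtain ⟨l', O, hstruct⟩ := π.noQuad_struct hG V hVq
  set l := π.line X Y
  have hVl : ∀ v ∈ V, v • l = l := fun v hv => π.smul_line_eq hG hXY (hXF v hv) (hYF v hv)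
  obtain ⟨C, hCF, hCl, hCX, hCY⟩ : ∃ C, C ∈ F ∧ π.mem C l ∧ C ≠ X ∧ C ≠ Y := by
    letI : MulAction V {q | π.mem q l} :=
      { smul := fun g q => ⟨g.1 • q.1, by
          have := π.mem_smul hG (g := g.1) q.2
          rwa [hVl g.1 g.2] at this⟩
        one_smul := fun q => Subtype.ext (one_smul G q.1)
        mul_smul := fun g h q => Subtype.ext (mul_smul g.1 h.1 q.1) }
    have h := hV.card_modEq_card_fixedPoints {q | π.mem q l}
    have he : Nat.card (fixedPoints V {q | π.mem q l}) = {q | π.mem q l ∧ q ∈ F}.ncard := by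
      rw [← Nat.card_coe_set_eq]
      exact Nat.card_congr
        ⟨fun q => ⟨q.1.1, q.1.2, fun v hv => congrArg Subtype.val (q.2 ⟨v, hv⟩)⟩,
          fun q => ⟨⟨q.1, q.2.1⟩, fun v => Subtype.ext (q.2.2 v.1 v.2)⟩, fun _ => rfl, fun _ => rfl⟩
    rw [he, Nat.card_coe_set_eq, π.ncard_line] at h
    have hp := π.prime_dvd_order hG h2 hn hk
    by_contra hcon
    simp only [not_exists, not_and, not_not] at hcon
    have hset : {q | π.mem q l ∧ q ∈ F} = {X, Y} := by
      ext q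
      constructor
      · rintro ⟨h1, h3⟩
        rcases eq_or_ne q X with e | e
        · exact Or.inl e
        · exact Or.inr (hcon q h3 h1 e)
      · rintro (rfl | rfl)
        exacts [⟨π.left_mem _ _, hXF⟩, ⟨π.right_mem _ _, hYF⟩]
    rw [hset, Set.ncard_pair hXY] at h
    have h5 : 2 ≡ 1 [MOD p] := h.symm.trans
      (by simpa using (Nat.modEq_zero_iff_dvd.mpr hp).add_right 1)
    exact (Fact.out (p := p.Prime)).not_dvd_one ((Nat.modEq_iff_dvd' one_le_two).mp h5.symm)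
  -- every line with three fixed points is `l`
  have hthree : ∀ {m : L} {a b c : P}, a ∈ F → b ∈ F → c ∈ F → a ≠ b → a ≠ c → b ≠ c →
      π.mem a m → π.mem b m → π.mem c m → m = l' := by
    intro m a b c ha hb hc hab hac hbc ham hbm hcm
    have two : ∀ {u v : P}, u ∈ F → v ∈ F → u ≠ v → u ≠ O → v ≠ O → π.mem u m → π.mem v m → m = l' :=
      fun hu hv huv huO hvO hum hvm => π.eq_line huv hum hvm ((hstruct _ hu).resolve_right huO)
        ((hstruct _ hv).resolve_right hvO)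
    by_cases haO : a = O
    · exact two hb hc hbc (fun e => hab (haO.trans e.symm)) (fun e => hac (haO.trans e.symm)) hbm hcm
    · by_cases hbO : b = O
      · exact two ha hc hac haO (fun e => hbc (hbO.trans e.symm)) ham hcm
      · exact two ha hb hab haO hbO ham hbm
  have hll : l = l' :=
    hthree hXF hYF hCF hXY hCX.symm hCY.symm (π.left_mem X Y) (π.right_mem X Y) hCl
  subst hll
  obtain ⟨zX, hzX, hzX'⟩ := π.exists_central hG h2 hn hk hno V hV (a := X) hXF
  obtain ⟨zY, hzY, hzY'⟩ := π.exists_central hG h2 hn hk hno V hV (a := Y) hYF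
  -- a centraliser of `V` fixes the exceptional point
  suffices ∃ O' : P, ∀ z : G, (∀ v ∈ V, z * v = v * z) → z • O' = O' by
    obtain ⟨O', hO'⟩ := this
    exact hXY (((hzX' O').mp (hO' zX hzX)).symm.trans ((hzY' O').mp (hO' zY hzY)))
  have hzF : ∀ z : G, (∀ v ∈ V, z * v = v * z) → ∀ q ∈ F, z • q ∈ F := fun z hz q hq v hv => by
    rw [← mul_smul, ← hz v hv, mul_smul, hq v hv]
  have hzl : ∀ z : G, (∀ v ∈ V, z * v = v * z) → z • l = l := fun z hz =>
    hthree (hzF z hz X hXF) (hzF z hz Y hYF) (hzF z hz C hCF) (fun e => hXY (MulAction.injective z e))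
      (fun e => hCX.symm (MulAction.injective z e)) (fun e => hCY.symm (MulAction.injective z e))
      (π.mem_smul hG (π.left_mem X Y)) (π.mem_smul hG (π.right_mem X Y)) (π.mem_smul hG hCl)
  by_cases hout : ∃ q ∈ F, ¬ π.mem q l
  · obtain ⟨q, hq, hql⟩ := hout
    refine ⟨q, fun z hz => ?_⟩
    have h1 : ¬ π.mem (z • q) l := fun e => hql ((hG z q l).mp (by rwa [hzl z hz]))
    exact ((hstruct _ (hzF z hz q hq)).resolve_left h1).trans ((hstruct q hq).resolve_left hql).symm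
  simp only [not_exists, not_and, not_not] at hout
  set σ := π.fixedPl hG M hMq
  have hσ := π.inv_fixedPl hG M hMq
  set x' : Subgroup.normalizer (M : Set G) := ⟨x, hxN⟩
  obtain ⟨m, hmV, hml⟩ : ∃ m : L, (∀ v ∈ V, v • m = m) ∧ m ≠ l := by
    by_contra hcon
    simp only [not_exists, not_and, not_not] at hcon
    have h := σ.card_fix_eq hσ x'
    have h1 : {q : Fix M L | x' • q = q}.ncard ≤ 1 := (Set.ncard_le_one (Set.toFinite _)).mpr
      fun q hq q' hq' => Subtype.ext ((hcon q.1 (fun v hv => by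
        exact (sup_le (a := M) (c := stabilizer G q.1) q.2
          (Subgroup.zpowers_le.mpr (congrArg Subtype.val hq))) hv)).trans
        (hcon q'.1 (fun v hv => (sup_le (a := M) (c := stabilizer G q'.1) q'.2
          (Subgroup.zpowers_le.mpr (congrArg Subtype.val hq'))) hv)).symm)
    rw [← h] at h1
    exact hXY (congrArg Subtype.val ((Set.ncard_le_one (Set.toFinite _)).mp h1
      ⟨X, fun u hu => hWX u (hMW.le hu)⟩ (Subtype.ext (hWX x hxW))
      ⟨Y, fun u hu => hWY u (hMW.le hu)⟩ (Subtype.ext (hWY x hxW))))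
  refine ⟨π.meet m l, fun z hz => ?_⟩
  have hmeetF : ∀ {m₁ m₂ : L}, (∀ v ∈ V, v • m₁ = m₁) → (∀ v ∈ V, v • m₂ = m₂) → m₁ ≠ m₂ →
      π.meet m₁ m₂ ∈ F := fun h1 h3 hne v hv => π.smul_meet_eq hG hne (h1 v hv) (h3 v hv)
  have hO : π.mem (π.meet m l) (z • m) := by
    by_cases he : z • m = m
    · rw [he]; exact π.meet_left m l
    · have hzm : ∀ v ∈ V, v • z • m = z • m := fun v hv => by rw [← mul_smul, ← hz v hv, mul_smul, hmV v hv]
      have := hout _ (hmeetF hmV hzm (Ne.symm he))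
      rw [π.meet_unique hml (π.meet_left m (z • m)) this]
      exact π.meet_right _ _
  have h1 := π.mem_smul hG (g := z) (π.meet_left m l)
  have h3 := π.mem_smul hG (g := z) (π.meet_right m l)
  rw [hzl z hz] at h3
  have hne : z • m ≠ l := fun e => hml (MulAction.injective z (e.trans (hzl z hz).symm))
  exact π.eq_point hne h1 h3 hO (π.meet_right m l)

/-- No element of order `p` fixes two points. -/
theorem no_prime_elt
    (hIH : ∀ (U : Subgroup G) (hU : π.QuadFix U), (π.fixedPl hG U hU).order < π.order →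
      (π.fixedPl hG U hU).TT (Img (Subgroup.normalizer (U : Set G)) (Fix U P) (Fix U L)) →
      p ∣ (π.fixedPl hG U hU).order →
      ∃ (g : Img (Subgroup.normalizer (U : Set G)) (Fix U P) (Fix U L)) (l : Fix U L),
        g ^ p = 1 ∧ g ≠ 1 ∧ (π.fixedPl hG U hU).AxisFix g l)
    {e : G} {X₀ Y₀ : P} (hep : e ^ p = 1) (he1 : e ≠ 1) (hXY₀ : X₀ ≠ Y₀) (heX : e • X₀ = X₀)
    (heY : e • Y₀ = Y₀) : False := by
  classical
  obtain ⟨M, ⟨hM, hMq⟩, hmax'⟩ := (Set.toFinite {V : Subgroup G | IsPGroup p V ∧ π.QuadFix V}).exists_maximal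
    ⟨⊥, IsPGroup.of_bot, π.quadFix_bot⟩
  have hmax : ∀ V : Subgroup G, M ≤ V → IsPGroup p V → π.QuadFix V → V ≤ M :=
    fun V h1 h3 h4 => hmax' ⟨h3, h4⟩ h1
  have hsyl : ∀ (X Y : Fix M P), X ≠ Y → ∀ W : Subgroup G, M ≤ W → IsPGroup p W →
      W ≤ stabilizer G X.1 ⊓ stabilizer G Y.1 → W = M := fun X Y hne W hMW hW hWs => by
    rcases hMW.lt_or_eq with hlt | heq
    · exact (π.not_larger hG h2 hn hk hno M hM hMq hmax (fun e' => hne (Subtype.ext e')) W hlt hW
        (fun w hw => (hWs hw).1) (fun w hw => (hWs hw).2)).elim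
    · exact heq.symm
  have hMne : M ≠ ⊥ := fun hb => by
    have hfix : ∀ q : P, ∀ u ∈ M, u • q = q := fun q u hu => by
      rw [hb, Subgroup.mem_bot] at hu
      rw [hu, one_smul]
    have := hsyl ⟨X₀, hfix X₀⟩ ⟨Y₀, hfix Y₀⟩ (fun h => hXY₀ (congrArg Subtype.val h))
      (Subgroup.zpowers e) (by rw [hb]; exact bot_le) (isPGroup_zpowers (a := 1) (by rw [pow_one]; exact hep))
      (le_inf (Subgroup.zpowers_le.mpr heX) (Subgroup.zpowers_le.mpr heY))
    exact he1 ((Subgroup.mem_bot).mp (hb ▸ this ▸ Subgroup.mem_zpowers e))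
  set σ := π.fixedPl hG M hMq
  have hσ := π.inv_fixedPl hG M hMq
  have htt : σ.TT (Img (Subgroup.normalizer (M : Set G)) (Fix M P) (Fix M L)) := by
    intro X Y X' Y' hne hne'
    obtain ⟨g, hgX, hgY⟩ := h2 X.1 Y.1 X'.1 Y'.1 (fun h => hne (Subtype.ext h)) (fun h => hne' (Subtype.ext h))
    set B := stabilizer G X.1 ⊓ stabilizer G Y.1
    set M₂ := M.map (MulAut.conj g⁻¹).toMonoidHom
    have hMB : M ≤ B := fun u hu => ⟨X.2 u hu, Y.2 u hu⟩
    have hM₂B : M₂ ≤ B := by
      rintro _ ⟨u, hu, rfl⟩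
      have key : ∀ Z Z' : P, g • Z = Z' → u • Z' = Z' → (MulAut.conj g⁻¹ u) • Z = Z := fun Z Z' h h' => by
        rw [MulAut.conj_apply, inv_inv, mul_smul, mul_smul, h, h', inv_smul_eq_iff, h]
      exact ⟨key _ _ hgX (X'.2 u hu), key _ _ hgY (Y'.2 u hu)⟩
    obtain ⟨S₁, hS₁⟩ := (hM.of_equiv (Subgroup.subgroupOfEquivOfLe hMB).symm).exists_le_sylow
    obtain ⟨S₂, hS₂⟩ := ((hM.map _).of_equiv (Subgroup.subgroupOfEquivOfLe hM₂B).symm).exists_le_sylow
    have e1 : S₁.1.map B.subtype = M := hsyl X Y hne _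
      (fun u hu => ⟨⟨u, hMB hu⟩, hS₁ (show (⟨u, hMB hu⟩ : B) ∈ M.subgroupOf B from hu), rfl⟩)
      (S₁.isPGroup'.map _) (Subgroup.map_subtype_le _)
    have e2 : S₂.1.map B.subtype = M₂ := by
      refine (Subgroup.eq_of_le_of_card_ge (H := M₂) (K := S₂.1.map B.subtype)
        (fun u hu => ⟨⟨u, hM₂B hu⟩, hS₂ (show (⟨u, hM₂B hu⟩ : B) ∈ M₂.subgroupOf B from hu), rfl⟩) (le_of_eq ?_)).symm
      rw [Subgroup.card_map_of_injective B.subtype_injective, S₂.card_eq_multiplicity,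
        ← S₁.card_eq_multiplicity, ← Subgroup.card_map_of_injective B.subtype_injective, e1,
        Subgroup.card_map_of_injective (MulEquiv.injective _)]
    obtain ⟨b, hb⟩ := MulAction.exists_smul_eq B S₁ S₂
    have hmap : ∀ u ∈ M, g * b.1 * u * (g * b.1)⁻¹ ∈ M := by
      intro u hu
      rw [← e1] at hu
      obtain ⟨u', hu', rfl⟩ := hu
      have h3 : b * u' * b⁻¹ ∈ S₂.1 := by
        rw [← hb]
        exact Subgroup.smul_mem_pointwise_smul u' (MulAut.conj b) S₁.1 hu'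
      have h4 : (b * u' * b⁻¹ : B).1 ∈ M₂ := e2 ▸ ⟨_, h3, rfl⟩
      obtain ⟨w, hw, hw'⟩ := h4
      simp only [MulEquiv.coe_toMonoidHom, MulAut.conj_apply, inv_inv, Subgroup.coe_mul, Subgroup.coe_inv] at hw'
      rwa [Subgroup.coe_subtype, show g * b.1 * u'.1 * (g * b.1)⁻¹ = g * (b.1 * u'.1 * b.1⁻¹) * g⁻¹ by group,
        ← hw', show g * (g⁻¹ * w * g) * g⁻¹ = w by group]
    have hN : g * b.1 ∈ Subgroup.normalizer (M : Set G) := by
      have heq : M.map (MulAut.conj (g * b.1)).toMonoidHom = M := Subgroup.eq_of_le_of_card_ge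
        (by rintro _ ⟨u, hu, rfl⟩; exact hmap u hu)
        (Subgroup.card_map_of_injective (MulEquiv.injective _)).ge
      refine Subgroup.mem_normalizer_iff.mpr fun u => ⟨hmap u, fun hu => ?_⟩
      obtain ⟨w, hw, e'⟩ := heq.symm ▸ hu
      exact (MulAut.conj (g * b.1)).injective e' ▸ hw
    refine ⟨toImg ⟨_, hN⟩, Subtype.ext ?_, Subtype.ext ?_⟩
    · show (g * b.1) • X.1 = X'.1
      rw [mul_smul, show b.1 • X.1 = X.1 from b.2.1, hgX]
    · show (g * b.1) • Y.1 = Y'.1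
      rw [mul_smul, show b.1 • Y.1 = Y.1 from b.2.2, hgY]
  obtain ⟨u, hu, hu1⟩ : ∃ u ∈ M, u ≠ 1 := by
    by_contra h
    simp only [not_exists, not_and, not_not] at h
    exact hMne ((Subgroup.eq_bot_iff_forall _).mpr h)
  have hlt := π.fixedPl_order_lt hG M hMq ⟨u, hu, π.exists_moved hG hu1⟩
  have hps : p ∣ σ.order :=
    Nat.modEq_zero_iff_dvd.mp ((π.fixedPl_modEq hG M hMq hM).symm.trans
      (Nat.modEq_zero_iff_dvd.mpr (π.prime_dvd_order hG h2 hn hk)))
  obtain ⟨f, l, hfp, hf1, hfl⟩ := hIH M hMq hlt htt hps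
  obtain ⟨y, a, hya, hyf⟩ := exists_lift toImg_surjective (Fact.out (p := p.Prime)) hfp hf1
  obtain ⟨X, hX, -, -⟩ := σ.exists_third l (σ.meet l l) (σ.meet l l)
  obtain ⟨Y, hY, hne, -⟩ := σ.exists_third l X X
  have hfix : ∀ Z : Fix M P, σ.mem Z l → (y : G) • Z.1 = Z.1 := fun Z hZ => congrArg Subtype.val
    (show y • Z = Z by rw [← toImg_smul (Y := Fix M L), hyf]; exact hfl Z hZ)
  have hW := hsyl X Y hne.symm (M ⊔ Subgroup.zpowers (y : G)) le_sup_left
    (hM.to_sup_of_normal_left' (isPGroup_zpowers (congrArg Subtype.val hya)) (Subgroup.zpowers_le.mpr y.2))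
    (sup_le (fun v hv => ⟨X.2 v hv, Y.2 v hv⟩)
      (Subgroup.zpowers_le.mpr ⟨hfix X hX, hfix Y hY⟩))
  have hyM : (y : G) ∈ M := le_of_le_of_eq le_sup_right hW (Subgroup.mem_zpowers (y : G))
  exact hf1 (hyf.symm.trans (toImg_eq_one σ hσ fun Z => Subtype.ext (Z.2 _ hyM)))

end CfsgLib.OWagner.Pl
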