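import Cfsg.Agent.Lib.OWagner.Plane
import Cfsg.Agent.Lib.BlockElation.Incidence

/-!
Collineations of finite planes: fixed subplanes, equal numbers of fixed points and lines, centres
and axes, and the two kinds of involutions.
-/

set_option autoImplicit false
set_option linter.unusedSectionVars false

namespace CfsgLib.OWagner.Pl

open MulAction

variable {P L G : Type*} (π : Pl P L) [Group G] [MulAction G P] [MulAction G L]

/-- The points fixed by a subgroup. -/
abbrev Fix (U : Subgroup G) (X : Type*) [MulAction G X] := {x : X // ∀ u ∈ U, u • x = x}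

/-- The collineations fix the points of a line. -/
def AxisFix (g : G) (l : L) : Prop := ∀ p, π.mem p l → g • p = p

/-- The collineations fix the lines of a point. -/
def CentreFix (g : G) (C : P) : Prop := ∀ l, π.mem C l → g • l = l

/-- A quadrangle fixed by a subgroup. -/
def QuadFix (U : Subgroup G) : Prop :=
  ∃ a b c d, π.Quad a b c d ∧ ∀ u ∈ U, u • a = a ∧ u • b = b ∧ u • c = c ∧ u • d = d

theorem quadFix_mono {U V : Subgroup G} (h : U ≤ V) (hV : π.QuadFix V) : π.QuadFix U := by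
  obtain ⟨a, b, c, d, hq, hf⟩ := hV
  exact ⟨a, b, c, d, hq, fun u hu => hf u (h hu)⟩

theorem quadFix_bot : π.QuadFix (⊥ : Subgroup G) := by
  obtain ⟨a, b, c, d, hq⟩ := π.exists_quad
  refine ⟨a, b, c, d, hq, fun u hu => ?_⟩
  rw [Subgroup.mem_bot] at hu
  simp [hu]

theorem centreFix_dual {g : G} {l : L} : π.dual.CentreFix g l ↔ π.AxisFix g l := Iff.rfl

theorem axisFix_dual {g : G} {C : P} : π.dual.AxisFix g C ↔ π.CentreFix g C := Iff.rfl

variable (hG : π.Inv G)
include hG

theorem inv_dual : π.dual.Inv G := fun g l p => hG g p l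

theorem mem_smul {g : G} {p : P} {l : L} (h : π.mem p l) : π.mem (g • p) (g • l) := (hG g p l).mpr h

theorem smul_line (g : G) {p q : P} (h : p ≠ q) : g • π.line p q = π.line (g • p) (g • q) :=
  (π.line_unique (fun e => h (MulAction.injective g e)) (π.mem_smul hG (π.left_mem p q))
    (π.mem_smul hG (π.right_mem p q))).symm

theorem smul_line_eq {g : G} {p q : P} (h : p ≠ q) (hp : g • p = p) (hq : g • q = q) :
    g • π.line p q = π.line p q := by
  rw [π.smul_line hG g h, hp, hq]

theorem smul_meet_eq {g : G} {l m : L} (h : l ≠ m) (hl : g • l = l) (hm : g • m = m) :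
    g • π.meet l m = π.meet l m := by
  have h1 := π.mem_smul hG (g := g) (π.meet_left l m)
  have h2 := π.mem_smul hG (g := g) (π.meet_right l m)
  rw [hl] at h1
  rw [hm] at h2
  exact (π.meet_unique h h1 h2).symm

theorem line_fix_of_two {g : G} {p q : P} {l : L} (h : p ≠ q) (hp : π.mem p l) (hq : π.mem q l)
    (gp : g • p = p) (gq : g • q = q) : g • l = l := by
  rw [← π.line_unique h hp hq]
  exact π.smul_line_eq hG h gp gq

theorem point_fix_of_two {g : G} {l m : L} {p : P} (h : l ≠ m) (hl : π.mem p l) (hm : π.mem p m)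
    (gl : g • l = l) (gm : g • m = m) : g • p = p := by
  rw [← π.meet_unique h hl hm]
  exact π.smul_meet_eq hG h gl gm

theorem quadFix_dual {U : Subgroup G} (hU : π.QuadFix U) : π.dual.QuadFix U := by
  obtain ⟨a, b, c, d, hq, hf⟩ := hU
  obtain ⟨hab, hac, had, hbc, hbd, hcd⟩ := π.quad_ne hq
  obtain ⟨h1, h2, h3, h4⟩ := hq
  have e1 : π.line a b ≠ π.line b c := fun e =>
    h1 ⟨_, π.left_mem a b, π.right_mem a b, e ▸ π.right_mem b c⟩
  have e2 : π.line b c ≠ π.line c d := fun e =>
    h4 ⟨_, π.left_mem b c, π.right_mem b c, e ▸ π.right_mem c d⟩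
  have e3 : π.line a b ≠ π.line d a := fun e =>
    h2 ⟨_, π.left_mem a b, π.right_mem a b, e ▸ π.left_mem d a⟩
  have e4 : π.line c d ≠ π.line d a := fun e =>
    h3 ⟨_, π.right_mem d a, e ▸ π.left_mem c d, π.left_mem d a⟩
  refine ⟨π.line a b, π.line b c, π.line c d, π.line d a, ⟨?_, ?_, ?_, ?_⟩, fun u hu => ?_⟩
  · rintro ⟨p, x, y, z⟩
    obtain rfl := π.eq_point e1 x y (π.right_mem a b) (π.left_mem b c)
    exact h4 ⟨_, z, π.left_mem c d, π.right_mem c d⟩
  · rintro ⟨p, x, y, z⟩
    obtain rfl := π.eq_point e1 x y (π.right_mem a b) (π.left_mem b c)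
    exact h2 ⟨_, π.right_mem d a, z, π.left_mem d a⟩
  · rintro ⟨p, x, y, z⟩
    obtain rfl := π.eq_point e4 y z (π.right_mem c d) (π.left_mem d a)
    exact h2 ⟨_, π.left_mem a b, π.right_mem a b, x⟩
  · rintro ⟨p, x, y, z⟩
    obtain rfl := π.eq_point e2 x y (π.right_mem b c) (π.left_mem c d)
    exact h3 ⟨_, π.right_mem d a, z, π.left_mem d a⟩
  · obtain ⟨ua, ub, uc, ud⟩ := hf u hu
    exact ⟨π.smul_line_eq hG hab ua ub, π.smul_line_eq hG hbc ub uc, π.smul_line_eq hG hcd uc ud,
      π.smul_line_eq hG had.symm ud ua⟩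

/-- The fixed subplane. -/
def fixedPl (U : Subgroup G) (hU : π.QuadFix U) : Pl (Fix U P) (Fix U L) where
  mem p l := π.mem p.1 l.1
  exists_line p q := by
    obtain ⟨a, b, c, d, hq, hf⟩ := hU
    have hab := (π.quad_ne hq).1
    by_cases h : p = q
    · subst h
      by_cases hpa : p.1 = a
      · exact ⟨⟨π.line p.1 b, fun u hu => π.smul_line_eq hG (hpa ▸ hab) (p.2 u hu) (hf u hu).2.1⟩,
          π.left_mem _ _, π.left_mem _ _⟩
      · exact ⟨⟨π.line p.1 a, fun u hu => π.smul_line_eq hG hpa (p.2 u hu) (hf u hu).1⟩,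
          π.left_mem _ _, π.left_mem _ _⟩
    · exact ⟨⟨π.line p.1 q.1, fun u hu => π.smul_line_eq hG (fun e => h (Subtype.ext e)) (p.2 u hu)
        (q.2 u hu)⟩, π.left_mem _ _, π.right_mem _ _⟩
  exists_point l m := by
    obtain ⟨a, b, c, d, hq, hf⟩ := π.quadFix_dual hG hU
    have hab := (π.dual.quad_ne hq).1
    by_cases h : l = m
    · subst h
      by_cases hla : l.1 = a
      · exact ⟨⟨π.meet l.1 b, fun u hu => π.smul_meet_eq hG (hla ▸ hab) (l.2 u hu) (hf u hu).2.1⟩,
          π.meet_left _ _, π.meet_left _ _⟩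
      · exact ⟨⟨π.meet l.1 a, fun u hu => π.smul_meet_eq hG hla (l.2 u hu) (hf u hu).1⟩,
          π.meet_left _ _, π.meet_left _ _⟩
    · exact ⟨⟨π.meet l.1 m.1, fun u hu => π.smul_meet_eq hG (fun e => h (Subtype.ext e)) (l.2 u hu)
        (m.2 u hu)⟩, π.meet_left _ _, π.meet_right _ _⟩
  unique h1 h2 h3 h4 := (π.unique h1 h2 h3 h4).imp (fun e => Subtype.ext e) (fun e => Subtype.ext e)
  quad := by
    obtain ⟨a, b, c, d, hq, hf⟩ := hU
    obtain ⟨hab, -, -, -, -, hcd⟩ := π.quad_ne hq
    obtain ⟨h1, h2, h3, h4⟩ := hq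
    exact ⟨⟨a, fun u hu => (hf u hu).1⟩, ⟨b, fun u hu => (hf u hu).2.1⟩, ⟨c, fun u hu => (hf u hu).2.2.1⟩,
      ⟨d, fun u hu => (hf u hu).2.2.2⟩,
      fun l x y => ⟨fun z => h1 ⟨l.1, x, y, z⟩, fun z => h2 ⟨l.1, x, y, z⟩⟩,
      fun l x y => ⟨fun z => h3 ⟨l.1, z, x, y⟩, fun z => h4 ⟨l.1, z, x, y⟩⟩,
      fun e => hab (congrArg Subtype.val e), fun e => hcd (congrArg Subtype.val e)⟩

theorem fixedPl_mem (U : Subgroup G) (hU : π.QuadFix U) (p : Fix U P) (l : Fix U L) :
    (π.fixedPl hG U hU).mem p l ↔ π.mem p.1 l.1 := Iff.rfl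

/-- The action of the normaliser on the fixed elements. -/
instance normAction (U : Subgroup G) (X : Type*) [MulAction G X] :
    MulAction (Subgroup.normalizer (U : Set G)) (Fix U X) where
  smul g x := ⟨g.1 • x.1, fun u hu => by
    have h : g.1⁻¹ * u * g.1 ∈ U := by
      have := (Subgroup.mem_normalizer_iff.mp (inv_mem g.2) u).mp hu
      rwa [inv_inv] at this
    have h2 := x.2 _ h
    rw [mul_smul, mul_smul, inv_smul_eq_iff] at h2
    exact h2⟩
  one_smul x := Subtype.ext (one_smul G x.1)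
  mul_smul g h x := Subtype.ext (mul_smul g.1 h.1 x.1)

theorem inv_fixedPl (U : Subgroup G) (hU : π.QuadFix U) :
    (π.fixedPl hG U hU).Inv (Subgroup.normalizer (U : Set G)) := fun g p l => hG g.1 p.1 l.1

variable [Finite P] [Finite L]

theorem fixedPl_order_lt (U : Subgroup G) (hU : π.QuadFix U) (h : ∃ u ∈ U, ∃ p : P, u • p ≠ p) :
    (π.fixedPl hG U hU).order < π.order := by
  have hlt : Nat.card (Fix U P) < Nat.card P := by
    obtain ⟨u, hu, p, hp⟩ := h
    exact Finite.card_subtype_lt (x := p) fun hf => hp (hf u hu)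
  rw [(π.fixedPl hG U hU).card_points, π.card_points] at hlt
  by_contra hle
  have h1 : π.order ≤ (π.fixedPl hG U hU).order := not_lt.mp hle
  have := Nat.pow_le_pow_left h1 2
  omega

theorem fixedPl_modEq {q : ℕ} [Fact q.Prime] (U : Subgroup G) (hU : π.QuadFix U) (hq : IsPGroup q U) :
    π.order ≡ (π.fixedPl hG U hU).order [MOD q] := by
  obtain ⟨l⟩ : Nonempty (Fix U L) := ⟨(π.fixedPl hG U hU).base⟩
  letI : MulAction U {p | π.mem p l.1} :=
    { smul := fun u p => ⟨u.1 • p.1, by
        have := π.mem_smul hG (g := u.1) p.2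
        rwa [l.2 u.1 u.2] at this⟩
      one_smul := fun p => Subtype.ext (one_smul G p.1)
      mul_smul := fun u v p => Subtype.ext (mul_smul u.1 v.1 p.1) }
  have h := hq.card_modEq_card_fixedPoints {p | π.mem p l.1}
  have e : Nat.card (fixedPoints U {p | π.mem p l.1}) = {p | (π.fixedPl hG U hU).mem p l}.ncard := by
    rw [← Nat.card_coe_set_eq]
    exact Nat.card_congr
      ⟨fun p => ⟨⟨p.1.1, fun u hu => congrArg Subtype.val (p.2 ⟨u, hu⟩)⟩, p.1.2⟩,
        fun p => ⟨⟨p.1.1, p.2⟩, fun u => Subtype.ext (p.1.2 u.1 u.2)⟩, fun _ => rfl, fun _ => rfl⟩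
  rw [e, Nat.card_coe_set_eq, π.ncard_line, (π.fixedPl hG U hU).ncard_line] at h
  exact Nat.ModEq.add_right_cancel' 1 h

theorem card_fix_eq (g : G) : {p : P | g • p = p}.ncard = {l : L | g • l = l}.ncard := by
  classical
  haveI := Fintype.ofFinite P
  obtain ⟨e⟩ : Nonempty (P ≃ L) := Finite.card_eq.mp (π.card_points.trans π.card_lines.symm)
  set A : Matrix P P ℚ := Matrix.of fun p q => if π.mem q (e p) then 1 else 0 with hA
  have hcol : ∀ S : Set L, (∑ p : P, if e p ∈ S then (1 : ℚ) else 0) = S.ncard := fun S => by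
    rw [← Set.ncard_preimage_of_injective_subset_range e.injective (s := S) (by simp), Finset.sum_boole,
      Set.ncard_eq_toFinset_card']
    congr 2
    ext q
    simp
  have hATA : A.transpose * A = (π.order : ℚ) • 1 + (1 : ℚ) • BlockElation.ones := by
    ext q r
    rw [Matrix.mul_apply]
    simp only [Matrix.transpose_apply, hA, Matrix.of_apply, Matrix.add_apply, Matrix.smul_apply,
      BlockElation.ones, smul_eq_mul, mul_one]
    have hs : (∑ p : P, (if π.mem q (e p) then (1 : ℚ) else 0) * (if π.mem r (e p) then 1 else 0)) =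
        ({l | π.mem q l ∧ π.mem r l}.ncard : ℚ) := by
      rw [← hcol {l | π.mem q l ∧ π.mem r l}]
      refine Finset.sum_congr rfl fun p _ => ?_
      simp only [Set.mem_setOf_eq]
      split_ifs <;> simp_all
    rw [hs]
    rcases eq_or_ne q r with rfl | hqr
    · rw [Matrix.one_apply_eq]
      simp [π.ncard_pencil q]
    · rw [Matrix.one_apply_ne hqr, show {l | π.mem q l ∧ π.mem r l} = {π.line q r} from Set.ext fun l =>
        ⟨fun h => (π.line_unique hqr h.1 h.2).symm, fun h => h ▸ ⟨π.left_mem q r, π.right_mem q r⟩⟩]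
      simp
  have hc : (0 : ℚ) < π.order := Nat.cast_pos.mpr (by have := π.two_le_order; omega)
  let σ : Equiv.Perm P := (e.trans (MulAction.toPerm g)).trans e.symm
  have h := BlockElation.card_fixed_eq A (BlockElation.isUnit_of_transpose_mul A _ _ hc zero_le_one hATA) σ
    (MulAction.toPerm g) fun p q => by
      simp only [hA, Matrix.of_apply, σ, Equiv.trans_apply, Equiv.apply_symm_apply,
        MulAction.toPerm_apply]
      exact if_congr (hG g q (e p)) rfl rfl
  rw [show {p : P | g • p = p} = {q | MulAction.toPerm g q = q} from rfl, ← h,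
    ← Set.ncard_image_of_injective _ e.injective]
  congr 1
  ext x
  constructor
  · rintro ⟨p, hp, rfl⟩
    have hp' : e.symm (g • e p) = p := hp
    show g • e p = e p
    rw [← e.symm_apply_eq, hp']
  · intro hx
    refine ⟨e.symm x, ?_, e.apply_symm_apply x⟩
    show e.symm (g • e (e.symm x)) = e.symm x
    rw [e.apply_symm_apply, hx]

theorem lineFix_of_forall {g : G} (h : ∀ p : P, g • p = p) (l : L) : g • l = l := by
  obtain ⟨a, ha, -, -⟩ := π.exists_third l (π.meet l l) (π.meet l l)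
  obtain ⟨b, hb, hne, -⟩ := π.exists_third l a a
  exact π.line_fix_of_two hG hne.symm ha hb (h a) (h b)

theorem centreFix_of_axisFix_point {g : G} {l : L} (hl : π.AxisFix g l) {Z : P} (hZ : ¬ π.mem Z l)
    (hgZ : g • Z = Z) : π.CentreFix g Z := fun m hm =>
  π.line_fix_of_two hG (fun e : Z = π.meet l m => hZ (e ▸ π.meet_left l m)) hm (π.meet_right l m) hgZ
    (hl _ (π.meet_left l m))

theorem smul_axis {g : G} {l : L} (hl : π.AxisFix g l) : g • l = l := by
  obtain ⟨a, ha, -, -⟩ := π.exists_third l (π.meet l l) (π.meet l l)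
  obtain ⟨b, hb, hne, -⟩ := π.exists_third l a a
  exact π.line_fix_of_two hG hne.symm ha hb (hl a ha) (hl b hb)

theorem smul_centre {g : G} {C : P} (hC : π.CentreFix g C) : g • C = C :=
  π.dual.smul_axis (π.inv_dual hG) (l := C) hC

theorem exists_centre {g : G} {l : L} (hl : π.AxisFix g l) : ∃ C, π.CentreFix g C := by
  by_cases h : ∃ Z, ¬ π.mem Z l ∧ g • Z = Z
  · obtain ⟨Z, hZ, hgZ⟩ := h
    exact ⟨Z, π.centreFix_of_axisFix_point hG hl hZ hgZ⟩
  simp only [not_exists, not_and] at h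
  have key : ∀ X, ¬ π.mem X l → g • π.line X (g • X) = π.line X (g • X) := fun X hX => by
    have hne : X ≠ g • X := Ne.symm (h X hX)
    set K := π.line X (g • X)
    have hQl := π.meet_left l K
    have hgXl : ¬ π.mem (g • X) l := fun e => hX ((hG g X l).mp (by rwa [π.smul_axis hG hl]))
    have h1 := π.mem_smul hG (g := g) (π.left_mem X (g • X))
    have h2 := π.mem_smul hG (g := g) (π.meet_right l K)
    rw [hl _ hQl] at h2
    exact π.eq_line (fun e : g • X = π.meet l K => hgXl (e ▸ hQl)) h1 h2 (π.right_mem X (g • X))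
      (π.meet_right l K)
  obtain ⟨X₀, hX₀⟩ := π.exists_notMem l
  refine ⟨π.meet l (π.line X₀ (g • X₀)), fun m hm => ?_⟩
  rcases eq_or_ne m l with rfl | hml
  · exact π.smul_axis hG hl
  set C := π.meet l (π.line X₀ (g • X₀)) with hC
  obtain ⟨Y, hY, hYC, -⟩ := π.exists_third m C C
  have hYl : ¬ π.mem Y l := fun e => hYC (π.eq_point hml hY e hm (π.meet_left _ _))
  have hCY : π.mem C (π.line Y (g • Y)) := by
    rcases eq_or_ne (π.line Y (g • Y)) (π.line X₀ (g • X₀)) with e | e
    · rw [e]; exact π.meet_right _ _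
    have hfix := π.smul_meet_eq hG e (key Y hYl) (key X₀ hX₀)
    have hl' : π.mem (π.meet (π.line Y (g • Y)) (π.line X₀ (g • X₀))) l :=
      by_contra fun hn => h _ hn hfix
    have hne : l ≠ π.line X₀ (g • X₀) := fun e' => hX₀ (e' ▸ π.left_mem X₀ (g • X₀))
    rw [hC, π.meet_unique hne hl' (π.meet_right _ _)]
    exact π.meet_left _ _
  rw [π.eq_line hYC hY hm (π.left_mem Y (g • Y)) hCY]
  exact key Y hYl

theorem exists_axis {g : G} {C : P} (hC : π.CentreFix g C) : ∃ l, π.AxisFix g l :=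
  π.dual.exists_centre (π.inv_dual hG) (l := C) hC

theorem fix_of_two_centres {g : G} {C C' : P} (hne : C ≠ C') (h : π.CentreFix g C) (h' : π.CentreFix g C')
    (X : P) : g • X = X := by
  have off : ∀ Y, ¬ π.mem Y (π.line C C') → g • Y = Y := fun Y hY =>
    π.point_fix_of_two hG
      (fun e : π.line C Y = π.line C' Y => hY (by
        have h1 := π.line_unique hne (π.left_mem C Y) (e ▸ π.left_mem C' Y)
        rw [h1]
        exact π.right_mem C Y))
      (π.right_mem C Y) (π.right_mem C' Y) (h _ (π.left_mem C Y)) (h' _ (π.left_mem C' Y))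
  by_cases hX : π.mem X (π.line C C')
  · obtain ⟨Y, hY⟩ := π.exists_notMem (π.line C C')
    have hXY : X ≠ Y := fun e => hY (e ▸ hX)
    have line_fix : ∀ Y, ¬ π.mem Y (π.line C C') → g • π.line X Y = π.line X Y := fun Y hY => by
      obtain ⟨Y', hY', h1, h2⟩ := π.exists_third (π.line X Y) X Y
      have hne' : π.line X Y ≠ π.line C C' := fun e => hY (e ▸ π.right_mem X Y)
      have hY'off : ¬ π.mem Y' (π.line C C') := fun e =>
        h1 (π.eq_point hne' hY' e (π.left_mem X Y) hX)
      exact π.line_fix_of_two hG h2.symm (π.right_mem X Y) hY' (off Y hY) (off Y' hY'off)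
    obtain ⟨Y₂, hY₂, hY₂'⟩ := π.exists_notMem₂ (π.line C C') (π.line X Y)
    exact π.point_fix_of_two hG (fun e : π.line X Y = π.line X Y₂ => hY₂' (e ▸ π.right_mem X Y₂))
      (π.left_mem X Y) (π.left_mem X Y₂) (line_fix Y hY) (line_fix Y₂ hY₂)
  · exact off X hX

theorem fix_off_axis_eq {g : G} {l : L} {C Z : P} (hl : π.AxisFix g l) (hC : π.CentreFix g C)
    (hne : ∃ p : P, g • p ≠ p) (hZ : ¬ π.mem Z l) (hgZ : g • Z = Z) : Z = C := by
  by_contra h
  obtain ⟨p, hp⟩ := hne
  exact hp (π.fix_of_two_centres hG h (π.centreFix_of_axisFix_point hG hl hZ hgZ) hC p)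

theorem noQuad_struct (U : Subgroup G) (h : ¬ π.QuadFix U) :
    ∃ (l : L) (O : P), ∀ p, (∀ u ∈ U, u • p = p) → π.mem p l ∨ p = O := by
  let F : Set P := {p | ∀ u ∈ U, u • p = p}
  obtain ⟨a₀, b₀, c₀, d₀, -⟩ := π.quad
  have hq : ∀ a ∈ F, ∀ b ∈ F, ∀ c ∈ F, ∀ d ∈ F, ¬ π.Quad a b c d := fun a ha b hb c hc d hd hQ =>
    h ⟨a, b, c, d, hQ, fun u hu => ⟨ha u hu, hb u hu, hc u hu, hd u hu⟩⟩
  suffices ∃ (l : L) (O : P), ∀ p ∈ F, π.mem p l ∨ p = O from this
  by_cases hcol : ∃ a ∈ F, ∃ b ∈ F, ∃ c ∈ F, a ≠ b ∧ a ≠ c ∧ b ≠ c ∧ π.Col a b c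
  · obtain ⟨a, ha, b, hb, c, hc, hab, hac, hbc, l, hal, hbl, hcl⟩ := hcol
    by_cases hout : ∃ O ∈ F, ¬ π.mem O l
    · obtain ⟨O, hO, hOl⟩ := hout
      refine ⟨l, O, fun Y hY => or_iff_not_imp_left.mpr fun hYl => ?_⟩
      by_contra hne
      set Q := π.meet l (π.line Y O)
      have hne' : l ≠ π.line Y O := fun e => hOl (e ▸ π.right_mem Y O)
      obtain ⟨x, hx, y, hy, hxy, hxl, hyl, hxQ, hyQ⟩ : ∃ x ∈ F, ∃ y ∈ F, x ≠ y ∧ π.mem x l ∧ π.mem y l ∧
          x ≠ Q ∧ y ≠ Q := by
        by_cases h1 : a = Q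
        · exact ⟨b, hb, c, hc, hbc, hbl, hcl, h1 ▸ hab.symm, h1 ▸ hac.symm⟩
        · by_cases h2 : b = Q
          · exact ⟨a, ha, c, hc, hac, hal, hcl, h1, h2 ▸ hbc.symm⟩
          · exact ⟨a, ha, b, hb, hab, hal, hbl, h1, h2⟩
      refine hq x hx y hy Y hY O hO ⟨π.not_col_of_notMem hxy hxl hyl hYl,
        π.not_col_of_notMem hxy hxl hyl hOl, ?_, ?_⟩
      · rintro ⟨m, h1, h2, h3⟩
        rw [← π.line_unique hne h2 h3] at h1
        exact hxQ (π.meet_unique hne' hxl h1).symm
      · rintro ⟨m, h1, h2, h3⟩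
        rw [← π.line_unique hne h2 h3] at h1
        exact hyQ (π.meet_unique hne' hyl h1).symm
    · simp only [not_exists, not_and, not_not] at hout
      exact ⟨l, a, fun p hp => Or.inl (hout p hp)⟩
  · simp only [not_exists, not_and] at hcol
    by_cases hab : ∃ a ∈ F, ∃ b ∈ F, a ≠ b
    · obtain ⟨a, ha, b, hb, hab⟩ := hab
      by_cases hout : ∃ O ∈ F, ¬ π.mem O (π.line a b)
      · obtain ⟨O, hO, hOl⟩ := hout
        refine ⟨π.line a b, O, fun Y hY => or_iff_not_imp_left.mpr fun hYl => ?_⟩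
        by_contra hne
        have ne1 : ∀ {x : P}, π.mem x (π.line a b) → x ≠ Y ∧ x ≠ O := fun hx =>
          ⟨fun e => hYl (e ▸ hx), fun e => hOl (e ▸ hx)⟩
        exact hq a ha b hb Y hY O hO
          ⟨hcol a ha b hb Y hY hab (ne1 (π.left_mem a b)).1 (ne1 (π.right_mem a b)).1,
            hcol a ha b hb O hO hab (ne1 (π.left_mem a b)).2 (ne1 (π.right_mem a b)).2,
            hcol a ha Y hY O hO (ne1 (π.left_mem a b)).1 (ne1 (π.left_mem a b)).2 hne,
            hcol b hb Y hY O hO (ne1 (π.right_mem a b)).1 (ne1 (π.right_mem a b)).2 hne⟩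
      · simp only [not_exists, not_and, not_not] at hout
        exact ⟨π.line a b, a, fun p hp => Or.inl (hout p hp)⟩
    · simp only [not_exists, not_and, not_not] at hab
      by_cases hne : ∃ a, a ∈ F
      · obtain ⟨a, ha⟩ := hne
        exact ⟨π.base, a, fun p hp => Or.inr (hab p hp a ha)⟩
      · exact ⟨π.base, a₀, fun p hp => absurd ⟨p, hp⟩ hne⟩

theorem involution_cases {g : G} (hg : ∀ p : P, g • g • p = p) (hne : ∃ p : P, g • p ≠ p) :
    (∃ l, π.AxisFix g l) ∨ ∃ hU : π.QuadFix (Subgroup.zpowers g),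
      π.order = (π.fixedPl hG _ hU).order ^ 2 := by
  classical
  have hgl : ∀ l : L, g • g • l = l := fun l => by
    rw [← mul_smul]
    exact π.lineFix_of_forall hG (fun p => by rw [mul_smul, hg]) l
  have fixall : ∀ (x : P), g • x = x → ∀ u ∈ Subgroup.zpowers g, u • x = x :=
    fun x hx u hu => (Subgroup.zpowers_le (H := stabilizer G x)).mpr hx hu
  have fixallL : ∀ (x : L), g • x = x → ∀ u ∈ Subgroup.zpowers g, u • x = x :=
    fun x hx u hu => (Subgroup.zpowers_le (H := stabilizer G x)).mpr hx hu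
  have hpl : ∀ X, g • X ≠ X → g • π.line X (g • X) = π.line X (g • X) := fun X hX => by
    rw [π.smul_line hG g (Ne.symm hX), hg, π.line_comm hX]
  have hlp : ∀ m : L, g • m ≠ m → g • π.meet m (g • m) = π.meet m (g • m) := fun m hm => by
    have h1 := π.mem_smul hG (g := g) (π.meet_left m (g • m))
    have h2 := π.mem_smul hG (g := g) (π.meet_right m (g • m))
    rw [hgl] at h2
    exact (π.meet_unique (Ne.symm hm) h2 h1).symm
  by_cases hU : π.QuadFix (Subgroup.zpowers g)
  · refine Or.inr ⟨hU, ?_⟩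
    set σ := π.fixedPl hG _ hU
    haveI := Fintype.ofFinite P
    haveI := Fintype.ofFinite L
    let s : Finset L := Finset.univ.filter fun l => g • l = l
    let t : Finset P := Finset.univ.filter fun p => g • p ≠ p
    have key := Finset.sum_card_bipartiteAbove_eq_sum_card_bipartiteBelow
      (s := s) (t := t) (r := fun l q => π.mem q l)
    have h1 : ∀ l ∈ s, (t.bipartiteAbove (fun l q => π.mem q l) l).card = π.order - σ.order := by
      intro l hl
      have hl' : g • l = l := (Finset.mem_filter.mp hl).2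
      have hf : {q | π.mem q l ∧ g • q = q}.ncard = σ.order + 1 := by
        rw [← σ.ncard_line ⟨l, fixallL l hl'⟩, ← Nat.card_coe_set_eq, ← Nat.card_coe_set_eq]
        exact Nat.card_congr
          ⟨fun q => ⟨⟨q.1, fixall q.1 q.2.2⟩, q.2.1⟩,
            fun q => ⟨q.1.1, q.2, q.1.2 g (Subgroup.mem_zpowers g)⟩, fun _ => rfl, fun _ => rfl⟩
      have hsplit : (t.bipartiteAbove (fun l q => π.mem q l) l) =
          ({q | π.mem q l} \ {q | π.mem q l ∧ g • q = q} : Set P).toFinset := by
        ext q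
        simp [Finset.bipartiteAbove, t]
        tauto
      rw [hsplit, ← Set.ncard_eq_toFinset_card', Set.ncard_sdiff (fun q hq => hq.1), π.ncard_line, hf]
      omega
    have h2 : ∀ q ∈ t, (s.bipartiteBelow (fun l q => π.mem q l) q).card = 1 := by
      intro q hq
      have hq' : g • q ≠ q := (Finset.mem_filter.mp hq).2
      refine Finset.card_eq_one.mpr ⟨π.line q (g • q), ?_⟩
      ext l
      simp only [Finset.bipartiteBelow, s, Finset.mem_filter, Finset.mem_univ, true_and,
        Finset.mem_singleton]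
      refine ⟨fun h => (π.line_unique (Ne.symm hq') h.2 ?_).symm, fun h => h ▸ ⟨hpl q hq', π.left_mem _ _⟩⟩
      have := π.mem_smul hG (g := g) h.2
      rwa [h.1] at this
    have hs : s.card = σ.order ^ 2 + σ.order + 1 := by
      rw [← σ.card_lines, ← Fintype.card_subtype, ← Nat.card_eq_fintype_card]
      exact Nat.card_congr
        ⟨fun l => ⟨l.1, fixallL l.1 l.2⟩, fun l => ⟨l.1, l.2 g (Subgroup.mem_zpowers g)⟩, fun _ => rfl,
          fun _ => rfl⟩
    have ht : t.card + (σ.order ^ 2 + σ.order + 1) = π.order ^ 2 + π.order + 1 := by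
      rw [← σ.card_points, ← π.card_points, Nat.card_eq_fintype_card (α := P), ← Finset.card_univ,
        ← Finset.card_filter_add_card_filter_not (s := Finset.univ) (fun p : P => g • p ≠ p)]
      congr 1
      rw [← Fintype.card_subtype, ← Nat.card_eq_fintype_card]
      exact Nat.card_congr
        ⟨fun p => ⟨p.1, not_not.mpr (p.2 g (Subgroup.mem_zpowers g))⟩,
          fun p => ⟨p.1, fixall p.1 (not_not.mp p.2)⟩, fun _ => rfl, fun _ => rfl⟩
    have hlt : σ.order < π.order := by
      obtain ⟨p, hp⟩ := hne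
      exact π.fixedPl_order_lt hG _ hU ⟨g, Subgroup.mem_zpowers g, p, hp⟩
    rw [Finset.sum_congr rfl h1, Finset.sum_congr rfl h2, Finset.sum_const, Finset.sum_const, hs,
      smul_eq_mul, smul_eq_mul, mul_one] at key
    obtain ⟨d, hd⟩ : ∃ d, π.order = σ.order + (d + 1) := ⟨π.order - σ.order - 1, by omega⟩
    rw [hd, show σ.order + (d + 1) - σ.order = d + 1 by omega] at key
    rw [hd] at ht ⊢
    have h4 : (d + 1) * (σ.order + (d + 1)) = (d + 1) * σ.order ^ 2 := by
      rw [← key] at ht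
      nlinarith
    exact Nat.eq_of_mul_eq_mul_left (Nat.succ_pos d) h4
  · refine Or.inl ?_
    obtain ⟨l, O, hlO⟩ := π.noQuad_struct hG _ hU
    refine ⟨l, fun X hX => by_contra fun hXf => ?_⟩
    have hmeet : ∀ m : L, ∃ Y, π.mem Y m ∧ g • Y = Y := by
      intro m
      by_cases hm : g • m = m
      · obtain ⟨Z, hZ⟩ : ∃ Z, ¬ π.mem Z m ∧ g • Z ≠ Z := by
          by_contra hall
          simp only [not_exists, not_and, not_not] at hall
          obtain ⟨a, ha⟩ := π.exists_notMem m
          refine hXf ?_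
          by_cases hXm : π.mem X m
          · have hlab : g • π.line a X = π.line a X := by
              obtain ⟨a', ha', h1, h2⟩ := π.exists_third (π.line a X) a X
              have : ¬ π.mem a' m := fun e => h2 (π.eq_point
                (fun e' : π.line a X = m => ha (e' ▸ π.left_mem a X)) ha' e (π.right_mem a X) hXm)
              exact π.line_fix_of_two hG h1.symm (π.left_mem a X) ha' (hall a ha) (hall a' this)
            exact π.point_fix_of_two hG (fun e : π.line a X = m => ha (e ▸ π.left_mem a X))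
              (π.right_mem a X) hXm hlab hm
          · exact hall X hXm
        refine ⟨π.meet m (π.line Z (g • Z)), π.meet_left _ _, ?_⟩
        exact π.smul_meet_eq hG (fun e : m = π.line Z (g • Z) => hZ.1 (e ▸ π.left_mem Z (g • Z))) hm
          (hpl Z hZ.2)
      · exact ⟨π.meet m (g • m), π.meet_left _ _, hlp m hm⟩
    have hO : ∀ m : L, m ≠ l → π.mem X m → π.mem O m := fun m hml hXm => by
      obtain ⟨Y, hY, hgY⟩ := hmeet m
      rcases hlO Y (fixall Y hgY) with h | h
      · exact absurd (π.eq_point hml hY h hXm hX ▸ hgY) hXf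
      · exact h ▸ hY
    obtain ⟨A, hA, -⟩ := π.exists_notMem₂ l l
    have hm₁ : π.line X A ≠ l := fun e => hA (e ▸ π.right_mem X A)
    obtain ⟨B, hB, hB'⟩ := π.exists_notMem₂ l (π.line X A)
    have hm₂ : π.line X B ≠ l := fun e => hB (e ▸ π.right_mem X B)
    have hXO : X = O := π.eq_point (fun e : π.line X A = π.line X B => hB' (e ▸ π.right_mem X B))
      (π.left_mem X A) (π.left_mem X B) (hO _ hm₁ (π.left_mem X A)) (hO _ hm₂ (π.left_mem X B))
    obtain ⟨Z, hZ, hgZ⟩ := hmeet (π.line A X)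
    have hZl : π.mem Z l := (hlO Z (fixall Z hgZ)).elim id fun h => h ▸ hXO ▸ hX
    have hZX : Z = X := π.eq_point (fun e : π.line A X = l => hA (e ▸ π.left_mem A X)) hZ hZl
      (π.right_mem A X) hX
    exact hXf (hZX ▸ hgZ)

end CfsgLib.OWagner.Pl
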