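import Cfsg.Agent.Lib.OWagner.Existence
import Mathlib

/-!
Coordinates over a finite field for a plane with a two-transitive collineation group.
-/

set_option autoImplicit false
set_option linter.unusedSectionVars false

namespace CfsgLib.OWagner.Pl

open MulAction
open scoped Matrix LinearAlgebra.Projectivization

universe u v

variable {P : Type u} {L : Type v}

theorem exists_coords_of_axis {G : Type*} [Group G] [MulAction G P] [MulAction G L] [Finite P] [Finite L]
    [Finite G] [FaithfulSMul G P] (π : Pl P L) (hG : π.Inv G) (h2 : π.TT G) {g : G} {l₀ : L} (hg1 : g ≠ 1)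
    (hg : π.AxisFix g l₀) : ∃ (F : Type) (_ : Field F) (_ : Finite F) (ψ : L → Fin 3 → F),
      (∀ l, ψ l ≠ 0) ∧ (∀ l m (a : F), ψ l = a • ψ m → l = m) ∧
      Nat.card P = Nat.card (ℙ F (Fin 3 → F)) ∧
      ∀ l m k : L, l ≠ m → (π.mem (π.meet l m) k ↔ ∃ a b : F, ψ k = a • ψ l + b • ψ m) := by
  classical
  have D := π.data_of_axis hG h2 hg1 hg
  obtain ⟨fr⟩ := BlockElation.frame_nonempty D.geo
  obtain ⟨c⟩ := fr.exists_coord
  have hk : D.geo.k = π.order + 1 := π.ncard_line l₀
  have hX : Nat.card (G ⧸ stabilizer G l₀) = Nat.card P := D.card_quot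
  have hl : D.geo.l = 1 := by
    have h := D.geo.param
    rw [hk, hX, π.card_points_sub, Nat.add_sub_cancel, mul_comm (π.order + 1) π.order] at h
    exact (mul_eq_right₀ (by have := π.two_le_order; positivity)).mp h.symm
  have ht : D.geo.t = π.order := by
    have h := D.geo.k_eq fr.hH
    rw [hk, hl, one_mul] at h
    omega
  have hq : Nat.card c.F = π.order := c.card.trans ht
  have hcardP : Nat.card P = Nat.card (ℙ c.F c.Vec) :=
    hX.symm.trans (Nat.card_eq_of_bijective _ c.toProj_bijective)
  have hM : fr.M = 2 := by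
    haveI := Fintype.ofFinite c.F
    have h := Projectivization.card c.F c.Vec
    rw [← hcardP, Nat.card_fun, Nat.card_eq_fintype_card (α := Fin (fr.M + 1)), Fintype.card_fin, hq,
      π.card_points] at h
    have h2n := π.two_le_order
    have h3 : π.order ^ (fr.M + 1) = π.order ^ 3 := by
      obtain ⟨m, hm⟩ : ∃ m, π.order = m + 1 := ⟨π.order - 1, by omega⟩
      have h1 : 0 < π.order ^ (fr.M + 1) := pow_pos (by omega) _
      generalize π.order ^ (fr.M + 1) = A at h h1 ⊢
      rw [hm] at h ⊢
      rw [Nat.add_sub_cancel] at h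
      have h4 : A = ((m + 1) ^ 2 + (m + 1) + 1) * m + 1 := by omega
      rw [h4]
      ring
    have := Nat.pow_right_injective h2n h3
    omega
  let cst : Fin 3 ≃ Fin (fr.M + 1) := finCongr (by omega)
  let lineOf : G ⧸ stabilizer G l₀ → L := fun x => x.out • l₀
  have hblk : ∀ x p, p ∈ D.geo.blk x ↔ π.mem p (lineOf x) := fun x p => by
    show p ∈ D.blk x ↔ _
    conv_lhs => rw [← QuotientGroup.out_eq' x]
    exact π.mem_blk_mk hG D x.out p
  have hbij : Function.Bijective lineOf := by
    haveI := Fintype.ofFinite L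
    haveI := Fintype.ofFinite (G ⧸ stabilizer G l₀)
    refine (Fintype.bijective_iff_injective_and_card lineOf).mpr ⟨fun x y e => by_contra fun hne => ?_, ?_⟩
    · have hi := D.geo.card_inter x y hne
      rw [show D.geo.blk x ∩ D.geo.blk y = π.pts (lineOf x) from Set.ext fun p =>
        ⟨fun h => (hblk x p).mp h.1, fun h => ⟨(hblk x p).mpr h, (hblk y p).mpr (e ▸ h)⟩⟩, hl, pts,
        π.ncard_line] at hi
      have := π.two_le_order
      omega
    · rw [← Nat.card_eq_fintype_card, ← Nat.card_eq_fintype_card, hX, π.card_points, π.card_lines]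
  let inv := (Equiv.ofBijective lineOf hbij).symm
  have hinv : ∀ m, lineOf (inv m) = m := fun m => (Equiv.ofBijective lineOf hbij).apply_symm_apply m
  let ψ : L → Fin 3 → c.F := fun m => c.vec (inv m) ∘ cst
  have hcomp : ∀ v w : c.Vec, v ∘ cst = w ∘ cst → v = w := fun v w e =>
    funext fun i => by simpa using congrFun e (cst.symm i)
  refine ⟨c.F, inferInstance, inferInstance, ψ, fun m e => c.vec_ne_zero (inv m) (hcomp _ 0 e),
    fun l m a e => inv.injective (c.eq_of_vec (hcomp _ (a • c.vec (inv m)) e)), ?_, fun l m k hlm => ?_⟩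
  · rw [hcardP]
    show Nat.card (ℙ c.F (Fin (fr.M + 1) → c.F)) = _
    rw [hM]
  · have hne : inv l ≠ inv m := fun e => hlm (inv.injective e)
    have h1 : π.mem (π.meet l m) k ↔ inv k ∈ D.geo.line (inv l) (inv m) := by
      show _ ↔ D.geo.blk (inv l) ∩ D.geo.blk (inv m) ⊆ D.geo.blk (inv k)
      constructor
      · rintro h p ⟨hp, hp'⟩
        rw [hblk, hinv] at hp hp' ⊢
        exact π.meet_unique hlm hp hp' ▸ h
      · intro h
        have := @h (π.meet l m) ⟨(hblk _ _).mpr (by rw [hinv]; exact π.meet_left l m),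
          (hblk _ _).mpr (by rw [hinv]; exact π.meet_right l m)⟩
        rwa [hblk, hinv] at this
    rw [h1, c.mem_line_iff hne]
    exact exists₂_congr fun a b => ⟨fun e => by simp only [ψ, e]; rfl,
      fun e => hcomp _ (a • c.vec (inv l) + b • c.vec (inv m)) e⟩

/-- A plane with a two-transitive collineation group is the plane over a field. -/
theorem exists_desargues {G : Type (max u v)} [Group G] [MulAction G P] [MulAction G L] [Finite P] [Finite L]
    [Finite G] [FaithfulSMul G P] (π : Pl P L) (hG : π.Inv G) (h2 : π.TT G) :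
    ∃ (F : Type) (_ : Field F) (_ : Fintype F) (φ : P ≃ ℙ F (Fin 3 → F)),
      (∀ l : L, ∃ W : Submodule F (Fin 3 → F), Module.finrank F W = 2 ∧
          ∀ p : P, π.mem p l ↔ (φ p).submodule ≤ W) ∧
      (∀ W : Submodule F (Fin 3 → F), Module.finrank F W = 2 →
          ∃ l : L, ∀ p : P, π.mem p l ↔ (φ p).submodule ≤ W) := by
  classical
  obtain ⟨g, l₀, hg1, hg⟩ := exists_axisFix_aux _ π hG h2 rfl
  obtain ⟨F, iF, iFin, ψ, hψ0, hψinj, hcard, hψ⟩ := π.exists_coords_of_axis hG h2 hg1 hg
  letI := Fintype.ofFinite F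
  -- two lines through every point
  have hpair : ∀ p : P, ∃ l m : L, l ≠ m ∧ π.mem p l ∧ π.mem p m := fun p => by
    obtain ⟨l, hl, -, -⟩ := π.dual.exists_third p (π.dual.meet p p) (π.dual.meet p p)
    obtain ⟨m, hm, hne, -⟩ := π.dual.exists_third p l l
    exact ⟨l, m, hne.symm, hl, hm⟩
  choose a b hab ha hb using hpair
  have hli : ∀ p, LinearIndependent F ![ψ (a p), ψ (b p)] := fun p => by
    refine (LinearIndependent.pair_iff' (hψ0 _)).mpr fun t e => hab p (hψinj _ _ t e.symm).symm
  let w : P → Fin 3 → F := fun p => crossProduct (ψ (a p)) (ψ (b p))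
  have hw : ∀ p, w p ≠ 0 := fun p => crossProduct_ne_zero_iff_linearIndependent.mpr (hli p)
  let f : (Fin 3 → F) → Module.Dual F (Fin 3 → F) := fun x => dotProductBilin F F x
  have hf : ∀ x y, f x y = x ⬝ᵥ y := fun x y => rfl
  have hker : ∀ x : Fin 3 → F, x ≠ 0 → Module.finrank F (LinearMap.ker (f x)) = 2 := fun x hx => by
    have hne : f x ≠ 0 := fun e => hx (funext fun i => by
      have := LinearMap.congr_fun e (Pi.single i 1)
      rw [hf, dotProduct_single, mul_one] at this
      exact this)
    have := Module.Dual.finrank_ker_add_one_of_ne_zero hne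
    rw [Module.finrank_pi, Fintype.card_fin] at this
    omega
  have hmem : ∀ p k, π.mem p k ↔ ψ k ⬝ᵥ w p = 0 := fun p k => by
    have hspan : Submodule.span F (Set.range ![ψ (a p), ψ (b p)]) = LinearMap.ker (f (w p)) := by
      refine Submodule.eq_of_le_of_finrank_eq (Submodule.span_le.mpr ?_) (by
        rw [finrank_span_eq_card (hli p), hker _ (hw p), Fintype.card_fin])
      rintro _ ⟨i, rfl⟩
      rw [SetLike.mem_coe, LinearMap.mem_ker, hf, dotProduct_comm]
      fin_cases i
      · exact dot_self_cross _ _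
      · exact dot_cross_self _ _
    rw [← π.meet_unique (hab p) (ha p) (hb p), hψ _ _ k (hab p), π.meet_unique (hab p) (ha p) (hb p),
      dotProduct_comm, ← hf, ← LinearMap.mem_ker, ← hspan]
    simp only [Matrix.range_cons, Matrix.range_empty, Set.union_empty, Set.singleton_union,
      Submodule.mem_span_pair, eq_comm]
  let φ₀ : P → ℙ F (Fin 3 → F) := fun p => Projectivization.mk F (w p) (hw p)
  have hsub : ∀ p l, (φ₀ p).submodule ≤ LinearMap.ker (f (ψ l)) ↔ π.mem p l := fun p l => by
    rw [Projectivization.submodule_mk, Submodule.span_singleton_le_iff_mem, LinearMap.mem_ker, hf, hmem]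
  have hinj : Function.Injective φ₀ := fun p q e => by
    refine π.eq_point (hab p) (ha p) (hb p) ?_ ?_
    · exact (hsub q _).mp (e ▸ (hsub p _).mpr (ha p))
    · exact (hsub q _).mp (e ▸ (hsub p _).mpr (hb p))
  have hbij : Function.Bijective φ₀ := by
    haveI := Fintype.ofFinite P
    haveI := Fintype.ofFinite (ℙ F (Fin 3 → F))
    exact (Fintype.bijective_iff_injective_and_card φ₀).mpr
      ⟨hinj, by rw [← Nat.card_eq_fintype_card, ← Nat.card_eq_fintype_card, hcard]⟩
  refine ⟨F, iF, inferInstance, Equiv.ofBijective φ₀ hbij,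
    fun l => ⟨LinearMap.ker (f (ψ l)), hker _ (hψ0 l), fun p => (hsub p l).symm⟩, fun W hW => ?_⟩
  let B := Module.finBasisOfFinrankEq F W hW
  have hBne : ∀ i, (B i : Fin 3 → F) ≠ 0 := fun i e => B.ne_zero i (Subtype.ext e)
  obtain ⟨p, hp⟩ := hbij.2 (Projectivization.mk F _ (hBne 0))
  obtain ⟨q, hq⟩ := hbij.2 (Projectivization.mk F _ (hBne 1))
  set l := π.line p q
  have hle : W = LinearMap.ker (f (ψ l)) := by
    refine Submodule.eq_of_le_of_finrank_eq (fun x hx => ?_) (hW.trans (hker _ (hψ0 l)).symm)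
    have hin : ∀ i, (B i : Fin 3 → F) ∈ LinearMap.ker (f (ψ l)) := by
      intro i
      fin_cases i
      · have := (hsub p l).mpr (π.left_mem p q)
        rwa [hp, Projectivization.submodule_mk, Submodule.span_singleton_le_iff_mem] at this
      · have := (hsub q l).mpr (π.right_mem p q)
        rwa [hq, Projectivization.submodule_mk, Submodule.span_singleton_le_iff_mem] at this
    have h1 := congrArg Subtype.val (B.sum_repr ⟨x, hx⟩)
    simp only [AddSubmonoidClass.coe_finsetSum, Submodule.coe_smul] at h1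
    rw [← h1]
    exact Submodule.sum_mem _ fun i _ => Submodule.smul_mem _ _ (hin i)
  exact ⟨l, fun p => by rw [hle]; exact (hsub p l).symm⟩

end CfsgLib.OWagner.Pl
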