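import Cfsg.Agent.Lib.OWagner.Collineation

/-!
Elations and involutory homologies of a faithful collineation group: uniqueness of centre and axis,
the group of elations with one axis, and the product of two homologies with one axis.
-/

set_option autoImplicit false
set_option linter.unusedSectionVars false

namespace CfsgLib.OWagner.Pl

open MulAction

variable {P L G : Type*} (π : Pl P L) [Group G] [MulAction G P] [MulAction G L]

/-- An elation (possibly trivial) with given centre and axis. -/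
def IsEl (g : G) (C : P) (l : L) : Prop := π.AxisFix g l ∧ π.CentreFix g C ∧ π.mem C l

/-- An involutory homology. -/
def IsHom (g : G) (C : P) (l : L) : Prop :=
  g * g = 1 ∧ g ≠ 1 ∧ π.AxisFix g l ∧ π.CentreFix g C ∧ ¬ π.mem C l

theorem isEl_dual {g : G} {C : P} {l : L} : π.dual.IsEl g l C ↔ π.IsEl g C l :=
  ⟨fun ⟨a, b, c⟩ => ⟨b, a, c⟩, fun ⟨a, b, c⟩ => ⟨b, a, c⟩⟩

theorem isHom_dual {g : G} {C : P} {l : L} : π.dual.IsHom g l C ↔ π.IsHom g C l :=
  ⟨fun ⟨x, y, a, b, c⟩ => ⟨x, y, b, a, c⟩, fun ⟨x, y, a, b, c⟩ => ⟨x, y, b, a, c⟩⟩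

theorem isEl_one {C : P} {l : L} (h : π.mem C l) : π.IsEl (1 : G) C l :=
  ⟨fun p _ => one_smul G p, fun m _ => one_smul G m, h⟩

theorem centreFix_mul {g h : G} {C : P} (hg : π.CentreFix g C) (hh : π.CentreFix h C) :
    π.CentreFix (g * h) C := fun m hm => by rw [mul_smul, hh m hm, hg m hm]

theorem axisFix_mul {g h : G} {l : L} (hg : π.AxisFix g l) (hh : π.AxisFix h l) :
    π.AxisFix (g * h) l := fun p hp => by rw [mul_smul, hh p hp, hg p hp]

theorem axisFix_inv {g : G} {l : L} (hg : π.AxisFix g l) : π.AxisFix g⁻¹ l := fun p hp => by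
  rw [inv_smul_eq_iff, hg p hp]

theorem centreFix_inv {g : G} {C : P} (hg : π.CentreFix g C) : π.CentreFix g⁻¹ C := fun p hp => by
  rw [inv_smul_eq_iff, hg p hp]

theorem isEl_inv {g : G} {C : P} {l : L} (hg : π.IsEl g C l) : π.IsEl g⁻¹ C l :=
  ⟨π.axisFix_inv hg.1, π.centreFix_inv hg.2.1, hg.2.2⟩

variable (hG : π.Inv G)
include hG

theorem axisFix_conj {g : G} {l : L} (hg : π.AxisFix g l) (h : G) : π.AxisFix (h * g * h⁻¹) (h • l) := by
  intro p hp
  have h1 : π.mem (h⁻¹ • p) l := by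
    rw [← hG h, smul_inv_smul]
    exact hp
  rw [mul_smul, mul_smul, hg _ h1, smul_inv_smul]

theorem centreFix_conj {g : G} {C : P} (hg : π.CentreFix g C) (h : G) :
    π.CentreFix (h * g * h⁻¹) (h • C) :=
  π.dual.axisFix_conj (π.inv_dual hG) (l := C) hg h

theorem isEl_conj {g : G} {C : P} {l : L} (hg : π.IsEl g C l) (h : G) :
    π.IsEl (h * g * h⁻¹) (h • C) (h • l) :=
  ⟨π.axisFix_conj hG hg.1 h, π.centreFix_conj hG hg.2.1 h, π.mem_smul hG hg.2.2⟩

theorem isHom_conj {g : G} {C : P} {l : L} (hg : π.IsHom g C l) (h : G) :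
    π.IsHom (h * g * h⁻¹) (h • C) (h • l) := by
  obtain ⟨h1, h2, h3, h4, h5⟩ := hg
  refine ⟨?_, fun e => h2 ?_, π.axisFix_conj hG h3 h, π.centreFix_conj hG h4 h, fun e => h5 ((hG h C l).mp e)⟩
  · rw [show h * g * h⁻¹ * (h * g * h⁻¹) = h * (g * g) * h⁻¹ by group, h1]
    group
  · exact conj_eq_one_iff.mp e

variable [Finite P] [Finite L] [FaithfulSMul G P]

theorem eq_one_of_fix {g : G} (h : ∀ p : P, g • p = p) : g = 1 :=
  FaithfulSMul.eq_of_smul_eq_smul fun p : P => (h p).trans (one_smul G p).symm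

theorem exists_moved {g : G} (h : g ≠ 1) : ∃ p : P, g • p ≠ p := by
  by_contra hc
  simp only [not_exists, not_not] at hc
  exact h (π.eq_one_of_fix hG hc)

theorem centre_unique {g : G} (hg : g ≠ 1) {C C' : P} (h : π.CentreFix g C) (h' : π.CentreFix g C') :
    C = C' := by
  by_contra hne
  exact hg (π.eq_one_of_fix hG (π.fix_of_two_centres hG hne h h'))

theorem faithful_dual : FaithfulSMul G L :=
  faithfulSMul_iff.mpr fun g hg => π.eq_one_of_fix hG fun p =>
    π.dual.lineFix_of_forall (π.inv_dual hG) hg p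

theorem axis_unique {g : G} (hg : g ≠ 1) {l l' : L} (h : π.AxisFix g l) (h' : π.AxisFix g l') : l = l' :=
  haveI := π.faithful_dual hG
  π.dual.centre_unique (π.inv_dual hG) hg (C := l) (C' := l') h h'

theorem fix_off {g : G} {l : L} {C Z : P} (hl : π.AxisFix g l) (hC : π.CentreFix g C) (hg : g ≠ 1)
    (hZ : ¬ π.mem Z l) (hgZ : g • Z = Z) : Z = C :=
  π.fix_off_axis_eq hG hl hC (π.exists_moved hG hg) hZ hgZ

theorem el_fix_off {g : G} {C : P} {l : L} (hg : π.IsEl g C l) {Z : P} (hZ : ¬ π.mem Z l)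
    (hgZ : g • Z = Z) : g = 1 := by
  by_contra h
  exact hZ (π.fix_off hG hg.1 hg.2.1 h hZ hgZ ▸ hg.2.2)

theorem exists_isEl {g : G} {l : L} (hl : π.AxisFix g l) (h : ∀ Z, ¬ π.mem Z l → g • Z ≠ Z) :
    ∃ C, π.IsEl g C l := by
  obtain ⟨C, hC⟩ := π.exists_centre hG hl
  exact ⟨C, hl, hC, by_contra fun hn => h C hn (π.smul_centre hG hC)⟩

theorem el_mul {g h : G} {C C' : P} {l : L} (hg : π.IsEl g C l) (hh : π.IsEl h C' l) :
    ∃ D, π.IsEl (g * h) D l := by
  by_cases hg1 : g = 1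
  · exact ⟨C', by rw [hg1, one_mul]; exact hh⟩
  by_cases hh1 : h = 1
  · exact ⟨C, by rw [hh1, mul_one]; exact hg⟩
  rcases eq_or_ne C C' with rfl | hne
  · exact ⟨C, π.axisFix_mul hg.1 hh.1, π.centreFix_mul hg.2.1 hh.2.1, hg.2.2⟩
  refine π.exists_isEl hG (π.axisFix_mul hg.1 hh.1) fun Z hZ hfix => ?_
  rw [mul_smul] at hfix
  have h1 : π.mem (h • Z) (π.line Z C') := by
    have := π.mem_smul hG (g := h) (π.left_mem Z C')
    rwa [hh.2.1 _ (π.right_mem Z C')] at this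
  have h2 : π.mem (h • Z) (π.line Z C) := by
    have := π.mem_smul hG (g := g⁻¹) (π.left_mem Z C)
    rw [π.centreFix_inv hg.2.1 _ (π.right_mem Z C)] at this
    rwa [inv_smul_eq_iff.mpr hfix.symm] at this
  have hlines : π.line Z C' ≠ π.line Z C := fun e => hZ (by
    have := π.line_unique hne (π.right_mem Z C) (e ▸ π.right_mem Z C')
    rw [π.line_unique hne hg.2.2 hh.2.2] at this
    exact this ▸ π.left_mem Z C)
  exact hh1 (π.el_fix_off hG hh hZ (π.eq_point hlines h1 h2 (π.left_mem Z C') (π.left_mem Z C)))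

/-- The elations with a given axis. -/
def elAxis (l : L) : Subgroup G where
  carrier := {g | ∃ C, π.IsEl g C l}
  one_mem' := by
    obtain ⟨C, hC, -, -⟩ := π.exists_third l (π.meet l l) (π.meet l l)
    exact ⟨C, π.isEl_one hC⟩
  mul_mem' := fun ⟨_, h⟩ ⟨_, h'⟩ => π.el_mul hG h h'
  inv_mem' := fun ⟨C, h⟩ => ⟨C, π.isEl_inv h⟩

theorem mem_elAxis {l : L} {g : G} : g ∈ π.elAxis hG l ↔ ∃ C, π.IsEl g C l := Iff.rfl

theorem el_commute {g h : G} {C C' : P} {l : L} (hg : π.IsEl g C l) (hh : π.IsEl h C' l) (hne : C ≠ C') :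
    g * h = h * g := by
  have a1 := π.isEl_conj hG (π.isEl_inv hg) h
  rw [hh.1 C hg.2.2, π.smul_axis hG hh.1] at a1
  have a2 := π.isEl_conj hG hh g
  rw [hg.1 C' hh.2.2, π.smul_axis hG hg.1] at a2
  by_contra hn
  have h1 : g * (h * g⁻¹ * h⁻¹) ≠ 1 := fun e => hn (by
    calc g * h = g * (h * g⁻¹ * h⁻¹) * (h * g) := by group
      _ = h * g := by rw [e, one_mul])
  refine hne (π.centre_unique hG h1 (π.centreFix_mul hg.2.1 a1.2.1) ?_)
  rw [show g * (h * g⁻¹ * h⁻¹) = g * h * g⁻¹ * h⁻¹ by group]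
  exact π.centreFix_mul a2.2.1 (π.centreFix_inv hh.2.1)

theorem card_elAxis_dvd (l : L) : Nat.card (π.elAxis hG l) ∣ π.order ^ 2 := by
  have hoff : {p | ¬ π.mem p l}.ncard = π.order ^ 2 := by
    have := Set.ncard_add_ncard_compl {p | π.mem p l}
    rw [π.ncard_line, π.card_points, Set.compl_setOf] at this
    omega
  letI : MulAction (π.elAxis hG l) {p // ¬ π.mem p l} :=
    { smul := fun g p => ⟨g.1 • p.1, fun h => p.2 (by
        obtain ⟨C, hC⟩ := g.2
        have := (π.axisFix_inv hC.1) _ h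
        rw [inv_smul_smul] at this
        exact this ▸ h)⟩
      one_smul := fun p => Subtype.ext (one_smul G p.1)
      mul_smul := fun g g' p => Subtype.ext (mul_smul g.1 g'.1 p.1) }
  haveI := Fintype.ofFinite (MulAction.orbitRel.Quotient (π.elAxis hG l) {p // ¬ π.mem p l})
  have hfree : ∀ p : {p // ¬ π.mem p l}, stabilizer (π.elAxis hG l) p = ⊥ := fun p =>
    (Subgroup.eq_bot_iff_forall _).mpr fun g hg => by
      obtain ⟨C, hC⟩ := g.2
      exact Subtype.ext (π.el_fix_off hG hC p.2 (congrArg Subtype.val hg))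
  have h := Nat.card_congr (MulAction.selfEquivOrbitsQuotientProd hfree)
  rw [Nat.card_prod] at h
  have h' : Nat.card {p // ¬ π.mem p l} = π.order ^ 2 := hoff ▸ Nat.card_coe_set_eq _
  exact ⟨_, (h'.symm.trans h).trans (mul_comm _ _)⟩

theorem hom_mul_isEl {g h : G} {C C' : P} {l : L} (hg : π.IsHom g C l) (hh : π.IsHom h C' l) (hne : C ≠ C') :
    g * h ≠ 1 ∧ ∃ D, π.IsEl (g * h) D l := by
  obtain ⟨hg2, hg1, hgl, hgC, hgn⟩ := hg
  obtain ⟨hh2, hh1, hhl, hhC, hhn⟩ := hh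
  have ne1 : g * h ≠ 1 := fun e => by
    have : g = h := by
      calc g = g * h * h := by rw [mul_assoc, hh2, mul_one]
        _ = h := by rw [e, one_mul]
    exact hne (π.centre_unique hG hg1 hgC (this ▸ hhC))
  refine ⟨ne1, π.exists_isEl hG (π.axisFix_mul hgl hhl) fun Z hZ hfix => ?_⟩
  have hcZ := π.centreFix_of_axisFix_point hG (π.axisFix_mul hgl hhl) hZ hfix
  have e1 : g * (g * h) * g⁻¹ = (g * h)⁻¹ := by
    rw [inv_eq_of_mul_eq_one_right hg2, mul_inv_rev, inv_eq_of_mul_eq_one_right hh2,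
      inv_eq_of_mul_eq_one_right hg2, ← mul_assoc g g h, hg2, one_mul]
  have h1 := π.centreFix_conj hG hcZ g
  rw [e1] at h1
  have hgZ : g • Z = Z := π.centre_unique hG (inv_ne_one.mpr ne1) h1 (π.centreFix_inv hcZ)
  have hhZ : h • Z = Z := by
    rw [mul_smul] at hfix
    rw [← inv_smul_eq_iff.mpr hfix.symm, inv_smul_eq_iff, ← hgZ]
    rw [hgZ, hgZ]
  exact hne ((π.fix_off hG hgl hgC hg1 hZ hgZ).symm.trans (π.fix_off hG hhl hhC hh1 hZ hhZ))

end CfsgLib.OWagner.Pl
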