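import Cfsg.Agent.Lib.OWagner.TwoPart
import Cfsg.Agent.Lib.OWagner.Central
import Cfsg.Agent.Lib.BlockElation.Build
import Mathlib

/-!
A two-transitive collineation group of a finite plane contains a perspectivity, and so the design
of its lines carries elations.
-/

set_option autoImplicit false
set_option linter.unusedSectionVars false

namespace CfsgLib.OWagner.Pl

open MulAction

universe u v w

variable {P L G : Type*} [Group G] [MulAction G P] [MulAction G L] [Finite P] [Finite L] [Finite G]
  [FaithfulSMul G P] (π : Pl P L) (hG : π.Inv G) (h2 : π.TT G)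

/-- The points of a line. -/
def pts (l : L) : Set P := {p | π.mem p l}

include hG h2 in
theorem data_of_axis {g : G} {l : L} (hg1 : g ≠ 1) (hg : π.AxisFix g l) :
    BlockElation.Data (stabilizer G l) (π.pts l) where
  two := h2
  idx := by
    rw [index_stabilizer, Set.eq_univ_of_forall (s := orbit G l)
      (fun m => let ⟨k, hk⟩ := π.tt_line hG h2 l m; ⟨k, hk⟩), Set.ncard_univ, π.card_lines,
      π.card_points]
  inv h hh p := by
    show π.mem (h • p) l ↔ π.mem p l
    conv_lhs => rw [← show h • l = l from hh]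
    exact hG h p l
  two_le := by
    rw [pts, π.ncard_line]
    have := π.two_le_order
    omega
  lt := by
    rw [pts, π.ncard_line, π.card_points]
    have := π.two_le_order
    nlinarith
  co_trans p hp q hq := by
    obtain ⟨k, hk, hkl⟩ := π.tt_antiflag hG h2 (l := l) (l' := l) hp hq
    exact ⟨k, hkl, hk⟩
  unf := ⟨g, π.smul_axis hG hg, hg1, hg⟩

theorem mem_blk_mk {l : L} (hG : π.Inv G) (D : BlockElation.Data (stabilizer G l) (π.pts l)) (a : G) (p : P) :
    p ∈ D.blk (a : G ⧸ stabilizer G l) ↔ π.mem p (a • l) := by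
  rw [D.mem_blk_mk]
  show π.mem (a⁻¹ • p) l ↔ _
  rw [← hG a, smul_inv_smul]

include hG h2 in
theorem elation_of_axis {g : G} {l : L} (hg1 : g ≠ 1) (hg : π.AxisFix g l) {q : ℕ} (hq : q.Prime)
    (hdvd : q ∣ π.order) : ∃ (f : G) (m : L), f ^ q = 1 ∧ f ≠ 1 ∧ π.AxisFix f m := by
  haveI := Fact.mk hq
  have D := π.data_of_axis hG h2 hg1 hg
  obtain ⟨fr⟩ := BlockElation.frame_nonempty D.geo
  have hk : D.geo.k = π.order + 1 := π.ncard_line l
  have hX : Nat.card (G ⧸ stabilizer G l) = Nat.card P := D.card_quot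
  have hl : D.geo.l = 1 := by
    have h := D.geo.param
    rw [hk, hX, π.card_points_sub, Nat.add_sub_cancel, mul_comm (π.order + 1) π.order] at h
    exact (mul_eq_right₀ (by have := π.two_le_order; positivity)).mp h.symm
  have ht : D.geo.t = π.order := by
    have h := D.geo.k_eq fr.hH
    rw [hk, hl, one_mul] at h
    omega
  have hs : q ∣ Nat.card (D.geo.El D.geo.x₀) := by
    show q ∣ D.geo.s
    rw [D.geo.s_eq, ht]
    exact hdvd.mul_right _
  obtain ⟨⟨f, hf⟩, hord⟩ := exists_prime_orderOf_dvd_card' q hs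
  rw [← Subgroup.orderOf_coe] at hord
  replace hord : orderOf f = q := hord
  obtain ⟨a, ha⟩ := QuotientGroup.mk_surjective D.geo.x₀
  refine ⟨f, a • l, hord ▸ pow_orderOf_eq_one f, fun e => hq.one_lt.ne' ?_, fun p hp => ?_⟩
  · rw [← hord, e, orderOf_one]
  · refine D.geo.el_fix _ f hf p ?_
    rw [← ha]
    exact (π.mem_blk_mk hG D a p).mpr hp

theorem exists_axisFix_aux (n : ℕ) : ∀ {P : Type u} {L : Type v} {G : Type (max u v)} [Group G] [MulAction G P]
    [MulAction G L] [Finite P] [Finite L] [Finite G] [FaithfulSMul G P] (π : Pl P L),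
    π.Inv G → π.TT G → π.order = n → ∃ (g : G) (l : L), g ≠ 1 ∧ π.AxisFix g l := by
  induction n using Nat.strong_induction_on with
  | _ n ih =>
    intro P L G _ _ _ _ _ _ _ π hG h2 hn
    by_contra hcon
    simp only [not_exists, not_and] at hcon
    have hno : π.NoPersp G := fun g l hl => by_contra fun h => hcon g l h hl
    obtain ⟨p, k, hp, hk, e, X, Y, hep, he1, hXY, heX, heY⟩ := π.exists_prime_elt hG h2 hno
    haveI := Fact.mk hp
    have hk0 : k ≠ 0 := fun h0 => by
      have := π.two_le_order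
      rw [hk, h0, pow_zero] at this
      omega
    refine π.no_prime_elt hG h2 hk hk0 hno (fun U hU hlt htt hdvd => ?_) hep he1 hXY heX heY
    have hσ := π.inv_fixedPl hG U hU
    haveI := img_faithful (N := Subgroup.normalizer (U : Set G)) (π.fixedPl hG U hU) hσ
    obtain ⟨g, l, hg1, hg⟩ := ih _ (hn ▸ hlt) (π.fixedPl hG U hU) (inv_img _ hσ) htt rfl
    exact (π.fixedPl hG U hU).elation_of_axis (inv_img _ hσ) htt hg1 hg hp hdvd

end CfsgLib.OWagner.Pl
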