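import Cfsg.Agent.Lib.OWagner.Elation
import Mathlib

/-!
Planes of odd order in which every two points, and every two lines, are fixed by an involutory
homology, all involutions being homologies: every line is an axis and there are elations.
-/

set_option autoImplicit false
set_option linter.unusedSectionVars false

namespace CfsgLib.OWagner.Pl

open MulAction

variable {P L G : Type*} (π : Pl P L) [Group G] [MulAction G P] [MulAction G L]

/-- Every two points and every two lines are fixed by an involutory homology, and every involution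
is one. -/
structure HomSys (G : Type*) [Group G] [MulAction G P] [MulAction G L] : Prop where
  inv : π.Inv G
  invol : ∀ g : G, g * g = 1 → g ≠ 1 → ∃ C l, π.IsHom g C l
  pair : ∀ X Y, X ≠ Y → ∃ (g : G) (C : P) (l : L), π.IsHom g C l ∧
    ((π.mem X l ∧ π.mem Y l) ∨ (C = X ∧ π.mem Y l) ∨ (C = Y ∧ π.mem X l))
  pairL : ∀ k m, k ≠ m → ∃ (g : G) (C : P) (l : L), π.IsHom g C l ∧
    ((π.mem C k ∧ π.mem C m) ∨ (l = k ∧ π.mem C m) ∨ (l = m ∧ π.mem C k))

variable {π}

theorem HomSys.dual (S : π.HomSys G) : π.dual.HomSys G where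
  inv := π.inv_dual S.inv
  invol g h1 h2 := by
    obtain ⟨C, l, h⟩ := S.invol g h1 h2
    exact ⟨l, C, π.isHom_dual.mpr h⟩
  pair k m h := by
    obtain ⟨g, C, l, hg, hh⟩ := S.pairL k m h
    exact ⟨g, l, C, π.isHom_dual.mpr hg, hh⟩
  pairL X Y h := by
    obtain ⟨g, C, l, hg, hh⟩ := S.pair X Y h
    exact ⟨g, l, C, π.isHom_dual.mpr hg, hh⟩

variable [Finite P] [Finite L] [Finite G] [FaithfulSMul G P] (S : π.HomSys G)
include S

theorem fix_hom {g : G} {C : P} {l : L} (hg : π.IsHom g C l) {Z : P} (hZ : g • Z = Z) :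
    Z = C ∨ π.mem Z l := by
  by_cases h : π.mem Z l
  · exact Or.inr h
  · exact Or.inl (π.fix_off S.inv hg.2.2.1 hg.2.2.2.1 hg.2.1 h hZ)

theorem line_fix_hom {g : G} {C : P} {l : L} (hg : π.IsHom g C l) {m : L} (hm : g • m = m) :
    m = l ∨ π.mem C m :=
  haveI := π.faithful_dual S.inv
  fix_hom S.dual (π.isHom_dual.mpr hg) hm

theorem smul_centre_hom {g : G} {C : P} {l : L} (hg : π.IsHom g C l) : g • C = C :=
  π.smul_centre S.inv hg.2.2.2.1

theorem smul_axis_hom {g : G} {C : P} {l : L} (hg : π.IsHom g C l) : g • l = l :=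
  π.smul_axis S.inv hg.2.2.1

/-- Two commuting homologies, each centre on the other axis, have product with the third axis. -/
theorem axis_of_commute {g h : G} {X Y : P} {M M' : L} (hg : π.IsHom g X M) (hh : π.IsHom h Y M')
    (hX : π.mem X M') (hY : π.mem Y M) (hc : g * h = h * g) : ∃ (k : G) (D : P), π.IsHom k D (π.line X Y) := by
  have hXY : X ≠ Y := fun e => hg.2.2.2.2 (e ▸ hY)
  set R := π.meet M M'
  have hRY : R ≠ Y := fun e => hh.2.2.2.2 (e ▸ π.meet_right M M')
  have hRX : R ≠ X := fun e => hg.2.2.2.2 (e ▸ π.meet_left M M')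
  have hne1 : g * h ≠ 1 := fun e => hXY (by
    have : g = h := by
      calc g = g * h * h := by rw [mul_assoc, hh.1, mul_one]
        _ = h := by rw [e, one_mul]
    exact π.centre_unique S.inv hg.2.1 hg.2.2.2.1 (this ▸ hh.2.2.2.1))
  obtain ⟨D, N, hk⟩ := S.invol (g * h) (by
    rw [mul_assoc, ← mul_assoc h g h, ← hc, mul_assoc g h h, hh.1, mul_one, hg.1]) hne1
  have fX : (g * h) • X = X := by rw [mul_smul, hh.2.2.1 X hX, smul_centre_hom S hg]
  have fY : (g * h) • Y = Y := by rw [mul_smul, smul_centre_hom S hh, hg.2.2.1 Y hY]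
  have fR : (g * h) • R = R := by
    rw [mul_smul, hh.2.2.1 R (π.meet_right M M'), hg.2.2.1 R (π.meet_left M M')]
  refine ⟨g * h, D, ?_⟩
  have hMXY : M ≠ π.line X Y := fun e => hg.2.2.2.2 (e ▸ π.left_mem X Y)
  have hncol : ¬ π.mem R (π.line X Y) := fun e => hRY (π.eq_point hMXY (π.meet_left M M') e hY (π.right_mem X Y))
  have contraM : N ≠ M := fun e => by
    subst e
    have : π.AxisFix h N := fun p hp => by
      have := hk.2.2.1 p hp
      rw [hc, mul_smul, hg.2.2.1 p hp] at this
      exact this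
    exact hh.2.2.2.2 (π.axis_unique S.inv hh.2.1 this hh.2.2.1 ▸ hY)
  have contraM' : N ≠ M' := fun e => by
    subst e
    have : π.AxisFix g N := fun p hp => by
      have := hk.2.2.1 p hp
      rw [mul_smul, hh.2.2.1 p hp] at this
      exact this
    exact hg.2.2.2.2 (π.axis_unique S.inv hg.2.1 this hg.2.2.1 ▸ hX)
  have key : π.mem X N ∧ π.mem Y N := by
    refine ⟨(fix_hom S hk fX).resolve_left fun e => contraM ?_,
      (fix_hom S hk fY).resolve_left fun e => contraM' ?_⟩
    · exact π.eq_line hRY ((fix_hom S hk fR).resolve_left fun e' => hRX (e'.trans e.symm))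
        ((fix_hom S hk fY).resolve_left fun e' => hXY (e.trans e'.symm)) (π.meet_left M M') hY
    · exact π.eq_line hRX ((fix_hom S hk fR).resolve_left fun e' => hRY (e'.trans e.symm))
        ((fix_hom S hk fX).resolve_left fun e' => hXY (e'.trans e.symm)) (π.meet_right M M') hX
  rwa [π.line_unique hXY key.1 key.2]

theorem axis_of_both {g h : G} {X Y : P} {M M' : L} (hg : π.IsHom g X M) (hh : π.IsHom h Y M')
    (hX : π.mem X M') (hY : π.mem Y M) : ∃ (k : G) (D : P), π.IsHom k D (π.line X Y) := by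
  have hXY : X ≠ Y := fun e => hg.2.2.2.2 (e ▸ hY)
  set r := g * h with hr
  have gr : g * r * g⁻¹ = r⁻¹ := by
    rw [hr, inv_eq_of_mul_eq_one_right hg.1, mul_inv_rev, inv_eq_of_mul_eq_one_right hh.1,
      inv_eq_of_mul_eq_one_right hg.1, ← mul_assoc, hg.1, one_mul]
  have grn : ∀ i : ℕ, g * r ^ i * g⁻¹ = (r ^ i)⁻¹ := fun i => by rw [← conj_pow, gr, inv_pow]
  have fX : r • X = X := by rw [hr, mul_smul, hh.2.2.1 X hX, smul_centre_hom S hg]
  have fY : r • Y = Y := by rw [hr, mul_smul, smul_centre_hom S hh, hg.2.2.1 Y hY]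
  have fix : ∀ i : ℕ, r ^ i • X = X ∧ r ^ i • Y = Y := fun i => by
    induction i with
    | zero => simp
    | succ i ih => rw [pow_succ, mul_smul (r ^ i) r X, mul_smul (r ^ i) r Y, fX, fY]; exact ih
  rcases Nat.even_or_odd (orderOf r) with ⟨i, hi⟩ | ⟨i, hi⟩
  · have hpos := orderOf_pos r
    set z := r ^ i with hz
    have hz2 : z * z = 1 := by rw [hz, ← pow_add, ← hi, pow_orderOf_eq_one]
    have hz1 : z ≠ 1 := pow_ne_one_of_lt_orderOf (by omega) (by omega)
    obtain ⟨D, N, hk⟩ := S.invol z hz2 hz1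
    have cg : g * z = z * g := by
      have := grn i
      rw [← hz, inv_eq_of_mul_eq_one_right hz2, mul_inv_eq_iff_eq_mul] at this
      exact this
    have cr : r * z = z * r := (Commute.self_pow r i).eq
    have ch : h * z = z * h := by
      have e : h = g * r := by rw [hr, ← mul_assoc, hg.1, one_mul]
      rw [e, mul_assoc, cr, ← mul_assoc, cg, mul_assoc]
    set R := π.meet M M'
    have hRY : R ≠ Y := fun e => hh.2.2.2.2 (e ▸ π.meet_right M M')
    have hRX : R ≠ X := fun e => hg.2.2.2.2 (e ▸ π.meet_left M M')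
    have hMM : M ≠ M' := fun e => hh.2.2.2.2 (e ▸ hY)
    have zM : ∀ {k : G} {C : P} {l : L}, π.IsHom k C l → k * z = z * k → z • l = l := fun {k C l} hk' hc => by
      have h1 := π.isHom_conj S.inv hk' z
      rw [← hc, mul_inv_cancel_right] at h1
      exact π.axis_unique S.inv hk'.2.1 h1.2.2.1 hk'.2.2.1
    have fR : z • R = R := π.smul_meet_eq S.inv hMM (zM hg cg) (zM hh ch)
    by_cases hDX : X = D
    · subst hDX
      have e : N = M := π.eq_line hRY ((fix_hom S hk fR).resolve_left hRX)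
        ((fix_hom S hk (fix i).2).resolve_left hXY.symm) (π.meet_left M M') hY
      subst e
      exact axis_of_commute S hk hh hX hY ch.symm
    by_cases hDY : Y = D
    · subst hDY
      have e : N = M' := π.eq_line hRX ((fix_hom S hk fR).resolve_left hRY)
        ((fix_hom S hk (fix i).1).resolve_left hXY) (π.meet_right M M') hX
      subst e
      exact axis_of_commute S hg hk hX hY cg
    exact ⟨z, D, (π.line_unique hXY ((fix_hom S hk (fix i).1).resolve_left hDX)
      ((fix_hom S hk (fix i).2).resolve_left hDY)).symm ▸ hk⟩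
  · exfalso
    have e : h = r ^ i * g * (r ^ i)⁻¹ := by
      have h1 : r ^ i * r ^ i * r = 1 := by
        rw [← pow_add, ← pow_succ, show i + i + 1 = orderOf r by omega, pow_orderOf_eq_one]
      have h2 : r ^ i * g = g * (r ^ i)⁻¹ := by
        have := grn i
        rw [mul_inv_eq_iff_eq_mul] at this
        calc r ^ i * g = g * (g * r ^ i) * g := by rw [← mul_assoc, hg.1, one_mul]
          _ = g * (r ^ i)⁻¹ := by rw [this, mul_assoc g ((r ^ i)⁻¹ * g) g, mul_assoc _ g g, hg.1, mul_one]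
      rw [h2, mul_assoc, ← mul_inv_rev, eq_inv_of_mul_eq_one_left h1 |>.trans rfl, inv_inv, hr, ← mul_assoc,
        hg.1, one_mul]
    have h1 := π.isHom_conj S.inv hg (r ^ i)
    rw [← e, (fix i).1] at h1
    exact hXY (π.centre_unique S.inv hh.2.1 h1.2.2.2.1 hh.2.2.2.1)

theorem line_axis (l : L) : ∃ (g : G) (C : P), π.IsHom g C l := by
  obtain ⟨X₀, hX₀, -, -⟩ := π.exists_third l (π.meet l l) (π.meet l l)
  obtain ⟨Y₀, hY₀, hne, -⟩ := π.exists_third l X₀ X₀
  obtain ⟨g, C, a, hg, hh⟩ := S.pair X₀ Y₀ hne.symm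
  have key : ∀ (g : G) (C : P) (a : L), π.IsHom g C a → π.mem C l → ∃ (g : G) (C : P), π.IsHom g C l := by
    intro g C a hg hC
    have hgl : g • l = l := hg.2.2.2.1 l hC
    have hla : l ≠ a := fun e => hg.2.2.2.2 (e ▸ hC)
    obtain ⟨Z, hZ, hZC, hZY⟩ := π.exists_third l C (π.meet l a)
    have hZmoved : g • Z ≠ Z := fun e => by
      rcases fix_hom S hg e with h | h
      · exact hZC h
      · exact hZY (π.meet_unique hla hZ h).symm
    have hW : π.mem (g • Z) l := by
      have := π.mem_smul S.inv (g := g) hZ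
      rwa [hgl] at this
    have hgg : g • g • Z = Z := by rw [← mul_smul, hg.1, one_smul]
    obtain ⟨k, D, b, hk, hh⟩ := S.pair Z (g • Z) hZmoved.symm
    have hline : π.line Z (g • Z) = l := π.line_unique hZmoved.symm hZ hW
    rcases hh with ⟨h1, h2⟩ | ⟨rfl, h2⟩ | ⟨rfl, h2⟩
    · exact ⟨k, D, (π.eq_line hZmoved.symm h1 h2 hZ hW) ▸ hk⟩
    · have hk' := π.isHom_conj S.inv hk g
      have h3 := π.mem_smul S.inv (g := g) h2
      rw [hgg] at h3
      obtain ⟨k', D', hk''⟩ := axis_of_both S hk hk' h3 h2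
      exact ⟨k', D', hline ▸ hk''⟩
    · have hk' := π.isHom_conj S.inv hk g
      rw [hgg] at hk'
      obtain ⟨k', D', hk''⟩ := axis_of_both S hk' hk h2 (π.mem_smul S.inv (g := g) h2)
      exact ⟨k', D', hline ▸ hk''⟩
  rcases hh with ⟨h1, h2⟩ | ⟨rfl, -⟩ | ⟨rfl, -⟩
  · exact ⟨g, C, (π.eq_line hne.symm h1 h2 hX₀ hY₀) ▸ hg⟩
  · exact key g _ a hg hX₀
  · exact key g _ a hg hY₀

theorem point_centre (C : P) : ∃ (g : G) (l : L), π.IsHom g C l :=
  haveI := π.faithful_dual S.inv
  let ⟨g, l, h⟩ := line_axis S.dual C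
  ⟨g, l, π.isHom_dual.mp h⟩

theorem not_all_unique (hu : ∀ (g g' : G) (C : P) (l l' : L), π.IsHom g C l → π.IsHom g' C l' → l = l') :
    False := by
  classical
  choose g f hf using point_centre S
  have hsurj : Function.Surjective f := fun l => by
    obtain ⟨h, C, hh⟩ := line_axis S l
    exact ⟨C, hu _ _ C _ _ (hf C) hh⟩
  have hbij : Function.Bijective f := by
    haveI := Fintype.ofFinite P
    haveI := Fintype.ofFinite L
    refine (Fintype.bijective_iff_surjective_and_card f).mpr ⟨hsurj, ?_⟩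
    rw [← Nat.card_eq_fintype_card, ← Nat.card_eq_fintype_card, π.card_points, π.card_lines]
  have hsym : ∀ X Y, π.mem X (f Y) → π.mem Y (f X) := fun X Y h => by
    have h1 := π.isHom_conj S.inv (hf X) (g Y)
    rw [(hf Y).2.2.1 X h] at h1
    rcases line_fix_hom S (hf Y) (hu _ _ X _ _ h1 (hf X)) with h2 | h2
    · exact absurd (h2 ▸ h) (hf X).2.2.2.2
    · exact h2
  obtain ⟨p, hp, hpd⟩ := Nat.exists_prime_and_dvd (show π.order ≠ 1 by have := π.two_le_order; omega)
  haveI := Fact.mk hp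
  haveI := Fintype.ofFinite P
  set A : Matrix P P (ZMod p) := Matrix.of fun X Y => if π.mem Y (f X) then 1 else 0
  let J : Matrix P P (ZMod p) := Matrix.of fun _ _ => 1
  have hn : (π.order : ZMod p) = 0 := (ZMod.natCast_eq_zero_iff _ _).mpr hpd
  have hcard : ∀ s : Set P, (∑ Y : P, if Y ∈ s then (1 : ZMod p) else 0) = (s.ncard : ZMod p) := fun s => by
    rw [Finset.sum_boole, Set.ncard_eq_toFinset_card']
    congr 2
    ext q
    simp
  have hAA : A * A = J := by
    ext X Z
    rw [Matrix.mul_apply]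
    have hs : (∑ Y, A X Y * A Y Z) = (({Y | π.mem Y (f X) ∧ π.mem Y (f Z)} : Set P).ncard : ZMod p) := by
      rw [← hcard]
      refine Finset.sum_congr rfl fun Y _ => ?_
      have hiff : π.mem Z (f Y) ↔ π.mem Y (f Z) := ⟨hsym Z Y, hsym Y Z⟩
      simp only [A, Matrix.of_apply, hiff, Set.mem_setOf_eq]
      split_ifs <;> simp_all
    rw [hs]
    rcases eq_or_ne X Z with rfl | hne
    · simp [π.ncard_line, hn, J]
    · rw [show {Y | π.mem Y (f X) ∧ π.mem Y (f Z)} = {π.meet (f X) (f Z)} from Set.ext fun Y =>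
        ⟨fun h => (π.meet_unique (fun e => hne (hbij.1 e)) h.1 h.2).symm,
          fun h => h ▸ ⟨π.meet_left _ _, π.meet_right _ _⟩⟩]
      simp [J]
  have hAJ : A * J = J := by
    ext X Z
    rw [Matrix.mul_apply]
    have hs : (∑ Y, A X Y * J Y Z) = (({Y | π.mem Y (f X)} : Set P).ncard : ZMod p) := by
      rw [← hcard]
      simp [A, J]
    rw [hs, π.ncard_line]
    simp [hn, J]
  have hpow : ∀ k, A ^ (k + 2) = J := by
    intro k
    induction k with
    | zero => rw [pow_two, hAA]
    | succ k ih => rw [show k + 1 + 2 = k + 2 + 1 from rfl, pow_succ', ih, hAJ]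
  have htr := ZMod.trace_pow_card A
  have htA : A.trace = 0 := Finset.sum_eq_zero fun X _ => if_neg (hf X).2.2.2.2
  obtain ⟨k, hk⟩ : ∃ k, p = k + 2 := ⟨p - 2, by have := hp.two_le; omega⟩
  rw [htA, zero_pow hp.ne_zero, show A ^ p = J from (congrArg (A ^ ·) hk).trans (hpow k)] at htr
  simp [Matrix.trace, J, ← Nat.card_eq_fintype_card, π.card_points, hn] at htr

end CfsgLib.OWagner.Pl
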