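import Mathlib

/-!
Finite projective planes as structures, their duals, counting, and the subplane of points and lines
fixed by a group of collineations.
-/

set_option autoImplicit false
set_option linter.unusedSectionVars false

namespace CfsgLib.OWagner

/-- A projective plane on given types of points and lines. -/
structure Pl (P L : Type*) where
  mem : P → L → Prop
  exists_line : ∀ p q, ∃ l, mem p l ∧ mem q l
  exists_point : ∀ l m, ∃ p, mem p l ∧ mem p m
  unique : ∀ {p q l m}, mem p l → mem q l → mem p m → mem q m → p = q ∨ l = m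
  quad : ∃ a b c d, (∀ l, mem a l → mem b l → ¬ mem c l ∧ ¬ mem d l) ∧
    (∀ l, mem c l → mem d l → ¬ mem a l ∧ ¬ mem b l) ∧ a ≠ b ∧ c ≠ d

namespace Pl

variable {P L : Type*} (π : Pl P L)

/-- Three points on a line. -/
def Col (a b c : P) : Prop := ∃ l, π.mem a l ∧ π.mem b l ∧ π.mem c l

/-- Four points, no three on a line. -/
def Quad (a b c d : P) : Prop := ¬ π.Col a b c ∧ ¬ π.Col a b d ∧ ¬ π.Col a c d ∧ ¬ π.Col b c d

theorem quad_ne {a b c d : P} (h : π.Quad a b c d) :
    a ≠ b ∧ a ≠ c ∧ a ≠ d ∧ b ≠ c ∧ b ≠ d ∧ c ≠ d := by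
  obtain ⟨h1, h2, h3, h4⟩ := h
  have key : ∀ {x y z : P}, ¬ π.Col x y z → x ≠ y ∧ x ≠ z ∧ y ≠ z := fun {x y z} hc => by
    refine ⟨fun e => hc ?_, fun e => hc ?_, fun e => hc ?_⟩
    · obtain ⟨l, hl, hl'⟩ := π.exists_line x z
      exact ⟨l, hl, e ▸ hl, hl'⟩
    · obtain ⟨l, hl, hl'⟩ := π.exists_line x y
      exact ⟨l, hl, hl', e ▸ hl⟩
    · obtain ⟨l, hl, hl'⟩ := π.exists_line x y
      exact ⟨l, hl, hl', e ▸ hl'⟩
  exact ⟨(key h1).1, (key h1).2.1, (key h2).2.1, (key h1).2.2, (key h2).2.2, (key h3).2.2⟩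

theorem exists_quad : ∃ a b c d, π.Quad a b c d := by
  obtain ⟨a, b, c, d, h1, h2, -, -⟩ := π.quad
  exact ⟨a, b, c, d, fun ⟨l, x, y, z⟩ => (h1 l x y).1 z, fun ⟨l, x, y, z⟩ => (h1 l x y).2 z,
    fun ⟨l, x, y, z⟩ => (h2 l y z).1 x, fun ⟨l, x, y, z⟩ => (h2 l y z).2 x⟩

/-- The line through two points. -/
noncomputable def line (p q : P) : L := (π.exists_line p q).choose

theorem left_mem (p q : P) : π.mem p (π.line p q) := (π.exists_line p q).choose_spec.1

theorem right_mem (p q : P) : π.mem q (π.line p q) := (π.exists_line p q).choose_spec.2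

theorem line_unique {p q : P} {l : L} (h : p ≠ q) (hp : π.mem p l) (hq : π.mem q l) :
    π.line p q = l :=
  (π.unique (π.left_mem p q) (π.right_mem p q) hp hq).resolve_left h

theorem line_comm {p q : P} (h : p ≠ q) : π.line p q = π.line q p :=
  π.line_unique h (π.right_mem q p) (π.left_mem q p)

/-- The common point of two lines. -/
noncomputable def meet (l m : L) : P := (π.exists_point l m).choose

theorem meet_left (l m : L) : π.mem (π.meet l m) l := (π.exists_point l m).choose_spec.1

theorem meet_right (l m : L) : π.mem (π.meet l m) m := (π.exists_point l m).choose_spec.2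

theorem meet_unique {p : P} {l m : L} (h : l ≠ m) (hl : π.mem p l) (hm : π.mem p m) :
    π.meet l m = p :=
  (π.unique (π.meet_left l m) hl (π.meet_right l m) hm).resolve_right h

theorem eq_point {p q : P} {l m : L} (h : l ≠ m) (h1 : π.mem p l) (h2 : π.mem p m) (h3 : π.mem q l)
    (h4 : π.mem q m) : p = q :=
  (π.unique h1 h3 h2 h4).resolve_right h

theorem eq_line {p q : P} {l m : L} (h : p ≠ q) (h1 : π.mem p l) (h2 : π.mem q l) (h3 : π.mem p m)
    (h4 : π.mem q m) : l = m :=
  (π.unique h1 h2 h3 h4).resolve_left h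

theorem not_col_of_notMem {a b c : P} {l : L} (hab : a ≠ b) (ha : π.mem a l) (hb : π.mem b l)
    (hc : ¬ π.mem c l) : ¬ π.Col a b c := fun ⟨m, x, y, z⟩ =>
  hc (π.eq_line hab x y ha hb ▸ z)

/-- The dual plane. -/
def dual : Pl L P where
  mem l p := π.mem p l
  exists_line := π.exists_point
  exists_point := π.exists_line
  unique h1 h2 h3 h4 := (π.unique h1 h3 h2 h4).symm
  quad := by
    obtain ⟨a, b, c, d, hq⟩ := π.exists_quad
    obtain ⟨hab, hac, had, hbc, hbd, hcd⟩ := π.quad_ne hq
    obtain ⟨h1, h2, h3, h4⟩ := hq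
    have e1 : π.line a b ≠ π.line a c := fun e => h1 ⟨_, π.left_mem a b, π.right_mem a b, e ▸ π.right_mem a c⟩
    have e2 : π.line b d ≠ π.line c d := fun e => h4 ⟨_, π.left_mem b d, e ▸ π.left_mem c d, π.right_mem b d⟩
    refine ⟨π.line a b, π.line a c, π.line b d, π.line c d, fun p x y => ?_, fun p x y => ?_, e1, e2⟩
    · obtain rfl := π.eq_point e1 x y (π.left_mem a b) (π.left_mem a c)
      exact ⟨fun z => h2 ⟨_, z, π.left_mem b d, π.right_mem b d⟩,
        fun z => h3 ⟨_, z, π.left_mem c d, π.right_mem c d⟩⟩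
    · obtain rfl := π.eq_point e2 x y (π.right_mem b d) (π.right_mem c d)
      exact ⟨fun z => h2 ⟨_, π.left_mem a b, π.right_mem a b, z⟩,
        fun z => h3 ⟨_, π.left_mem a c, π.right_mem a c, z⟩⟩

theorem dual_mem {l : L} {p : P} : π.dual.mem l p ↔ π.mem p l := Iff.rfl

theorem exists_notMem (l : L) : ∃ p, ¬ π.mem p l := by
  obtain ⟨a, b, c, d, h1, -, -, -⟩ := π.quad
  by_cases ha : π.mem a l
  · by_cases hb : π.mem b l
    · exact ⟨c, (h1 l ha hb).1⟩
    · exact ⟨b, hb⟩
  · exact ⟨a, ha⟩

theorem exists_line_notMem (p : P) : ∃ l, ¬ π.mem p l := π.dual.exists_notMem p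

theorem exists_notMem₂ (l m : L) : ∃ p, ¬ π.mem p l ∧ ¬ π.mem p m := by
  by_contra hcon
  simp only [not_exists, not_and, not_not] at hcon
  have hor : ∀ p, π.mem p l ∨ π.mem p m := fun p => or_iff_not_imp_left.mpr (hcon p)
  obtain ⟨a, b, c, d, h1, h2, h3, h4⟩ := π.exists_quad
  have hd : ∀ (k k' : L) (x y z w : P), (∀ p, π.mem p k ∨ π.mem p k') → π.mem x k → π.mem y k →
      π.mem z k' → π.mem w k' → (∀ j, π.mem x j → π.mem y j → π.mem z j → False) →
      (∀ j, π.mem x j → π.mem z j → π.mem w j → False) →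
      (∀ j, π.mem x j → π.mem y j → π.mem w j → False) →
      (∀ j, π.mem y j → π.mem z j → π.mem w j → False) → False := by
    intro k k' x y z w hk hx hy hz hw n1 n2 n3 n4
    rcases hk (π.meet (π.line x z) (π.line y w)) with hD | hD
    · have e1 := π.eq_point (fun e : π.line x z = k => n1 k hx hy (e ▸ π.right_mem x z))
        (π.meet_left (π.line x z) (π.line y w)) hD (π.left_mem x z) hx
      exact n3 _ (e1 ▸ π.meet_right (π.line x z) (π.line y w)) (π.left_mem y w) (π.right_mem y w)
    · have e1 := π.eq_point (fun e : π.line x z = k' => n2 k' (e ▸ π.left_mem x z) hz hw)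
        (π.meet_left (π.line x z) (π.line y w)) hD (π.right_mem x z) hz
      exact n4 _ (π.left_mem y w) (e1 ▸ π.meet_right (π.line x z) (π.line y w)) (π.right_mem y w)
  have key : ∀ k k' : L, (∀ p, π.mem p k ∨ π.mem p k') → π.mem a k → False := by
    intro k k' hk ha
    rcases hk b with hb | hb
    · have hc : π.mem c k' := (hk c).resolve_left fun h => h1 ⟨k, ha, hb, h⟩
      have hd' : π.mem d k' := (hk d).resolve_left fun h => h2 ⟨k, ha, hb, h⟩
      exact hd k k' a b c d hk ha hb hc hd' (fun j x y z => h1 ⟨j, x, y, z⟩)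
        (fun j x y z => h3 ⟨j, x, y, z⟩) (fun j x y z => h2 ⟨j, x, y, z⟩) (fun j x y z => h4 ⟨j, x, y, z⟩)
    · rcases hk c with hc | hc
      · have hd' : π.mem d k' := (hk d).resolve_left fun h => h3 ⟨k, ha, hc, h⟩
        exact hd k k' a c b d hk ha hc hb hd' (fun j x y z => h1 ⟨j, x, z, y⟩)
          (fun j x y z => h2 ⟨j, x, y, z⟩) (fun j x y z => h3 ⟨j, x, y, z⟩) (fun j x y z => h4 ⟨j, y, x, z⟩)
      · have hd' : π.mem d k := (hk d).resolve_right fun h => h4 ⟨k', hb, hc, h⟩
        exact hd k k' a d b c hk ha hd' hb hc (fun j x y z => h2 ⟨j, x, z, y⟩)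
          (fun j x y z => h1 ⟨j, x, y, z⟩) (fun j x y z => h3 ⟨j, x, z, y⟩) (fun j x y z => h4 ⟨j, y, z, x⟩)
  rcases hor a with ha | ha
  · exact key l m hor ha
  · exact key m l (fun p => (hor p).symm) ha

variable [Finite P] [Finite L]

/-- A chosen line. -/
noncomputable def base : L := π.line π.quad.choose π.quad.choose

/-- The order of the plane. -/
noncomputable def order : ℕ := {p | π.mem p π.base}.ncard - 1

theorem ncard_pencil_eq {p : P} {l : L} (h : ¬ π.mem p l) :
    {m | π.mem p m}.ncard = {q | π.mem q l}.ncard := by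
  refine (Set.ncard_congr (fun q _ => π.line p q) (fun q _ => π.left_mem p q) (fun q q' hq hq' e => ?_)
    fun m hm => ?_).symm
  · exact π.eq_point (fun e' : l = π.line p q => h (e' ▸ π.left_mem p q)) hq (π.right_mem p q) hq'
      (e ▸ π.right_mem p q')
  · refine ⟨π.meet l m, π.meet_left l m, ?_⟩
    exact π.line_unique (fun e : p = π.meet l m => h (e ▸ π.meet_left l m)) hm (π.meet_right l m)

theorem ncard_line_eq (l m : L) : {q | π.mem q l}.ncard = {q | π.mem q m}.ncard := by
  obtain ⟨p, h1, h2⟩ := π.exists_notMem₂ l m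
  rw [← π.ncard_pencil_eq h1, ← π.ncard_pencil_eq h2]

theorem ncard_line (l : L) : {q | π.mem q l}.ncard = π.order + 1 := by
  have h : 0 < {p | π.mem p π.base}.ncard := (Set.ncard_pos).mpr ⟨_, π.left_mem _ _⟩
  rw [order, π.ncard_line_eq l π.base]
  omega

theorem ncard_pencil (p : P) : {m | π.mem p m}.ncard = π.order + 1 := by
  obtain ⟨l, hl⟩ := π.exists_line_notMem p
  rw [π.ncard_pencil_eq hl, π.ncard_line]

theorem dual_order : π.dual.order = π.order := by
  have h : 0 < π.order + 1 := Nat.succ_pos _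
  have h1 : {l | π.dual.mem l π.dual.base}.ncard = π.order + 1 := π.ncard_pencil π.dual.base
  rw [Pl.order, h1]
  rfl

theorem two_le_order : 2 ≤ π.order := by
  obtain ⟨a, b, c, d, hq⟩ := π.exists_quad
  obtain ⟨hab, hac, had, hbc, hbd, hcd⟩ := π.quad_ne hq
  obtain ⟨h1, h2, h3, h4⟩ := hq
  have e1 : π.line a b ≠ π.line a c := fun e =>
    h1 ⟨_, π.left_mem a b, π.right_mem a b, e ▸ π.right_mem a c⟩
  have e2 : π.line a b ≠ π.line a d := fun e =>
    h2 ⟨_, π.left_mem a b, π.right_mem a b, e ▸ π.right_mem a d⟩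
  have e3 : π.line a c ≠ π.line a d := fun e =>
    h3 ⟨_, π.left_mem a c, π.right_mem a c, e ▸ π.right_mem a d⟩
  have hs : ({π.line a b, π.line a c, π.line a d} : Set L) ⊆ {m | π.mem a m} := by
    rintro m (rfl | rfl | rfl) <;> exact π.left_mem _ _
  have h := Set.ncard_le_ncard hs
  rw [π.ncard_pencil, Set.ncard_eq_three.mpr ⟨_, _, _, e1, e2, e3, rfl⟩] at h
  omega

theorem card_points : Nat.card P = π.order ^ 2 + π.order + 1 := by
  classical
  haveI := Fintype.ofFinite P
  haveI := Fintype.ofFinite L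
  obtain ⟨p, -⟩ := π.quad
  let s : Finset L := Finset.univ.filter fun l => π.mem p l
  have hs : s.card = π.order + 1 := by
    rw [← π.ncard_pencil p, Set.ncard_eq_toFinset_card']
    congr 1
    ext l
    simp [s]
  have key := Finset.sum_card_bipartiteAbove_eq_sum_card_bipartiteBelow
    (s := s) (t := (Finset.univ : Finset P).erase p) (r := fun l q => π.mem q l)
  have h1 : ∀ l ∈ s, (((Finset.univ : Finset P).erase p).bipartiteAbove (fun l q => π.mem q l) l).card =
      π.order := fun l hl => by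
    rw [show ((Finset.univ : Finset P).erase p).bipartiteAbove (fun l q => π.mem q l) l =
        ({q | π.mem q l} : Set P).toFinset.erase p from by ext q; simp [Finset.bipartiteAbove],
      Finset.card_erase_of_mem (by simpa [s] using hl), ← Set.ncard_eq_toFinset_card', π.ncard_line]
    omega
  have h2 : ∀ q ∈ (Finset.univ : Finset P).erase p,
      (s.bipartiteBelow (fun l q => π.mem q l) q).card = 1 := fun q hq => by
    refine Finset.card_eq_one.mpr ⟨π.line p q, ?_⟩
    ext l
    simp only [Finset.bipartiteBelow, s, Finset.mem_filter, Finset.mem_univ, true_and,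
      Finset.mem_singleton]
    exact ⟨fun h => (π.line_unique (Finset.ne_of_mem_erase hq).symm h.1 h.2).symm,
      fun h => h ▸ ⟨π.left_mem p q, π.right_mem p q⟩⟩
  rw [Finset.sum_congr rfl h1, Finset.sum_congr rfl h2, Finset.sum_const, Finset.sum_const,
    Finset.card_erase_of_mem (Finset.mem_univ p), Finset.card_univ, hs, smul_eq_mul, smul_eq_mul,
    mul_one, ← Nat.card_eq_fintype_card] at key
  have hpos : 0 < Nat.card P := Nat.card_pos_iff.mpr ⟨⟨p⟩, inferInstance⟩
  rw [add_mul, one_mul, ← sq] at key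
  omega

theorem card_lines : Nat.card L = π.order ^ 2 + π.order + 1 := by
  rw [π.dual.card_points, π.dual_order]

theorem exists_third (l : L) (a b : P) : ∃ c, π.mem c l ∧ c ≠ a ∧ c ≠ b := by
  by_contra h
  have hsub : {q | π.mem q l} ⊆ {a, b} := fun q hq => by
    simp only [not_exists, not_and, not_not] at h
    rcases eq_or_ne q a with e | e
    · exact Or.inl e
    · exact Or.inr (h q hq e)
  have h1 := Set.ncard_le_ncard hsub (Set.toFinite _)
  rw [π.ncard_line] at h1
  have h2 := (Set.ncard_insert_le a {b}).trans_eq (by rw [Set.ncard_singleton])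
  have := π.two_le_order
  omega

omit [Finite P] [Finite L] in
/-- A group acting by collineations. -/
def Inv (G : Type*) [Group G] [MulAction G P] [MulAction G L] : Prop :=
  ∀ (g : G) (p : P) (l : L), π.mem (g • p) (g • l) ↔ π.mem p l

end Pl

end CfsgLib.OWagner
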