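import Cfsg.Agent.Lib.OWagner.Axis
import Mathlib

/-!
A plane with a system of homologies has prime power order and an elation of that prime order.
-/

set_option autoImplicit false
set_option linter.unusedSectionVars false

namespace CfsgLib.OWagner.Pl

open MulAction

theorem orbit_of_fix_one {H α : Type*} [Group H] [MulAction H α] [Finite α] {p : ℕ} (hp : p.Prime)
    (h : ∀ a : α, ∃ g : H, g ^ p = 1 ∧ ∀ b, g • b = b ↔ b = a) (a b : α) : b ∈ orbit H a := by
  haveI := Fact.mk hp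
  by_contra hb
  have key : ∀ c, Nat.card (orbit H a) ≡ {d | d ∈ orbit H a ∧ d = c}.ncard [MOD p] := fun c => by
    obtain ⟨g, hg, hfix⟩ := h c
    have hK : IsPGroup p (Subgroup.zpowers g) := fun ⟨x, hx⟩ => ⟨1, Subtype.ext (by
      obtain ⟨i, rfl⟩ := Subgroup.mem_zpowers_iff.mp hx
      show (g ^ i) ^ p ^ 1 = 1
      rw [pow_one, ← zpow_natCast (g ^ i), ← zpow_mul, mul_comm, zpow_mul, zpow_natCast, hg, one_zpow])⟩
    have hc : Nat.card (fixedPoints (Subgroup.zpowers g) (orbit H a)) = {d | d ∈ orbit H a ∧ d = c}.ncard := by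
      rw [← Nat.card_coe_set_eq {d | d ∈ orbit H a ∧ d = c}]
      exact Nat.card_congr
        ⟨fun d => ⟨d.1.1, d.1.2, (hfix _).mp (congrArg Subtype.val (d.2 ⟨g, Subgroup.mem_zpowers g⟩))⟩,
          fun d => ⟨⟨d.1, d.2.1⟩, fun k => Subtype.ext ((Subgroup.zpowers_le (H := stabilizer H d.1)).mpr
            ((hfix _).mpr d.2.2) k.2)⟩, fun _ => rfl, fun _ => rfl⟩
    exact hc ▸ hK.card_modEq_card_fixedPoints (orbit H a)
  have h1 := (key a).symm.trans (key b)
  rw [show {d | d ∈ orbit H a ∧ d = a} = {a} from Set.ext fun d =>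
      ⟨fun h => h.2, by rintro rfl; exact ⟨mem_orbit_self _, rfl⟩⟩,
    show {d | d ∈ orbit H a ∧ d = b} = ∅ from Set.eq_empty_of_forall_notMem fun d h => hb (h.2 ▸ h.1),
    Set.ncard_singleton, Set.ncard_empty] at h1
  exact hp.not_dvd_one (Nat.modEq_zero_iff_dvd.mp h1)

variable {P L G : Type*} {π : Pl P L} [Group G] [MulAction G P] [MulAction G L]

theorem isEl_pow {g : G} {C : P} {l : L} (hg : π.IsEl g C l) : ∀ k : ℕ, π.IsEl (g ^ k) C l
  | 0 => by rw [pow_zero]; exact π.isEl_one hg.2.2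
  | k + 1 => by
    rw [pow_succ]
    exact ⟨π.axisFix_mul (isEl_pow hg k).1 hg.1, π.centreFix_mul (isEl_pow hg k).2.1 hg.2.1, hg.2.2⟩

variable [Finite P] [Finite L] [Finite G] [FaithfulSMul G P]

theorem full_conj (hG : π.Inv G) {l : L} (h : π.Full G l) (k : G) : π.Full G (k • l) := fun Y hY => by
  obtain ⟨g, hg1, hg⟩ := h (k⁻¹ • Y) (by rwa [← hG k, smul_inv_smul])
  have := π.isEl_conj hG hg k
  rw [smul_inv_smul] at this
  exact ⟨_, fun e => hg1 (conj_eq_one_iff.mp e), this⟩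

theorem full_comm (hG : π.Inv G) {l : L} (h : π.Full G l) {a b : G} {C C' : P} (ha : π.IsEl a C l)
    (hb : π.IsEl b C' l) : a * b = b * a := by
  by_cases hne : C = C'
  swap
  · exact π.el_commute hG ha hb hne
  subst hne
  by_cases hb1 : b = 1
  · simp [hb1]
  obtain ⟨Y, hY, hYC, -⟩ := π.exists_third l C C
  obtain ⟨k, hk1, hk⟩ := h Y hY
  obtain ⟨D, hD⟩ := π.el_mul hG hb hk
  have hDC : D ≠ C := fun e => hYC (π.centre_unique hG hk1 hk.2.1 (by
    rw [show k = b⁻¹ * (b * k) by group]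
    exact π.centreFix_mul (π.centreFix_inv hb.2.1) (e ▸ hD.2.1)))
  have e1 := π.el_commute hG ha hk hYC.symm
  have e2 := π.el_commute hG ha hD hDC.symm
  calc a * b = a * (b * k) * k⁻¹ := by group
    _ = b * (k * a) * k⁻¹ := by rw [e2, mul_assoc b k a]
    _ = b * a := by rw [← e1]; group

theorem full_exponent (hG : π.Inv G) {l : L} (h : π.Full G l) :
    ∃ p, p.Prime ∧ (∀ (g : G) C, π.IsEl g C l → g ^ p = 1) ∧ p ∣ π.order ∧
      ∃ n, Nat.card (π.elAxis hG l) = p ^ n := by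
  set E := π.elAxis hG l
  obtain ⟨X, hX, -, -⟩ := π.exists_third l (π.meet l l) (π.meet l l)
  obtain ⟨g₀, hg₀1, hg₀⟩ := h X hX
  haveI : Nontrivial E := ⟨⟨⟨g₀, X, hg₀⟩, 1, fun e => hg₀1 (congrArg Subtype.val e)⟩⟩
  obtain ⟨p, hp, hpE⟩ := Nat.exists_prime_and_dvd (Finite.one_lt_card (α := E)).ne'
  haveI := Fact.mk hp
  obtain ⟨⟨a, C, ha⟩, hord⟩ := exists_prime_orderOf_dvd_card' p hpE
  have hap : a ^ p = 1 := by
    rw [← hord, ← Subgroup.orderOf_coe]
    exact pow_orderOf_eq_one a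
  have ha1 : a ≠ 1 := fun e => by
    subst e
    rw [← Subgroup.orderOf_coe] at hord
    simp at hord
    exact hp.one_lt.ne' hord.symm
  have claim : ∀ {a b : G} {C C' : P}, π.IsEl a C l → a ≠ 1 → a ^ p = 1 → π.IsEl b C' l → C ≠ C' →
      b ^ p = 1 := fun {a b C C'} ha ha1 hap hb hne => by
    by_contra hbp
    obtain ⟨D, hD⟩ := π.el_mul hG ha hb
    have h1 : π.CentreFix (b ^ p) D := by
      have := (isEl_pow hD p).2.1
      rwa [(show Commute a b from full_comm hG h ha hb).mul_pow, hap, one_mul] at this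
    obtain rfl := π.centre_unique hG hbp h1 (isEl_pow hb p).2.1
    refine hne (π.centre_unique hG ha1 ha.2.1 ?_)
    rw [show a = a * b * b⁻¹ by group]
    exact π.centreFix_mul hD.2.1 (π.centreFix_inv hb.2.1)
  have hall : ∀ (g : G) D, π.IsEl g D l → g ^ p = 1 := fun g D hg => by
    by_cases hD : D = C
    · obtain ⟨Y, hY, hYC, -⟩ := π.exists_third l C C
      obtain ⟨k, hk1, hk⟩ := h Y hY
      exact claim hk hk1 (claim ha ha1 hap hk hYC.symm) hg (hD ▸ hYC)
    · exact claim ha ha1 hap hg (Ne.symm hD)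
  have hE : IsPGroup p E := fun ⟨g, D, hg⟩ => ⟨1, Subtype.ext (by simpa using hall g D hg)⟩
  exact ⟨p, hp, hall, hp.dvd_of_dvd_pow (hpE.trans (π.card_elAxis_dvd hG l)), hE.exists_card_eq⟩

variable (π) in
/-- The conclusion: prime power order and an elation of that prime order. -/
def PowerEl (G : Type*) [Group G] [MulAction G P] [MulAction G L] : Prop :=
  ∃ (p k : ℕ), p.Prime ∧ π.order = p ^ k ∧ ∃ (g : G) (C : P) (l : L), g ≠ 1 ∧ g ^ p = 1 ∧ π.IsEl g C l

variable (S : π.HomSys G)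
include S

theorem powerEl_of_homs {l : L} (h : π.Full G l) (hh : ∀ Z, ¬ π.mem Z l → ∃ g : G, π.IsHom g Z l) :
    π.PowerEl G := by
  obtain ⟨p, hp, hexp, -, n, hn⟩ := full_exponent S.inv h
  obtain ⟨X, hX, -, -⟩ := π.exists_third l (π.meet l l) (π.meet l l)
  obtain ⟨g₀, hg₀1, hg₀⟩ := h X hX
  suffices π.order ∣ p ^ n by
    obtain ⟨k, -, hk⟩ := (Nat.dvd_prime_pow hp).mp this
    exact ⟨p, k, hp, hk, g₀, X, l, hg₀1, hexp _ _ hg₀, hg₀⟩
  choose f hf using hh
  obtain ⟨Z₀, hZ₀⟩ := π.exists_notMem l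
  let φ : {Z // ¬ π.mem Z l} → π.elAxis S.inv l := fun Z => ⟨f Z₀ hZ₀ * f Z.1 Z.2, by
    by_cases e : Z₀ = Z.1
    · obtain ⟨Z, hZ⟩ := Z
      subst e
      rw [(hf Z₀ hZ₀).1]
      exact one_mem _
    · exact (π.hom_mul_isEl S.inv (hf Z₀ hZ₀) (hf Z.1 Z.2) e).2⟩
  have hle := Nat.card_le_card_of_injective φ fun Z Z' e => by
    have e' : f Z.1 Z.2 = f Z'.1 Z'.2 := mul_left_cancel (congrArg Subtype.val e)
    exact Subtype.ext (π.centre_unique S.inv (hf Z.1 Z.2).2.1 (hf Z.1 Z.2).2.2.2.1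
      (e' ▸ (hf Z'.1 Z'.2).2.2.2.1))
  have hoff : Nat.card {Z // ¬ π.mem Z l} = π.order ^ 2 := by
    have := Set.ncard_add_ncard_compl {p | π.mem p l}
    rw [π.ncard_line, π.card_points] at this
    rw [← Set.coe_setOf, Nat.card_coe_set_eq, ← Set.compl_setOf]
    omega
  rw [hoff, hn] at hle
  have hdvd := π.card_elAxis_dvd S.inv l
  rw [hn] at hdvd
  rw [Nat.le_antisymm (Nat.le_of_dvd (by have := π.two_le_order; positivity) hdvd) hle]
  exact dvd_pow_self _ two_ne_zero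

theorem powerEl_of_trans {l : L} (h : π.Full G l)
    (hgood : ∀ X, π.mem X l → ∃ l', l' ≠ l ∧ π.Full G l' ∧ π.mem X l') : π.PowerEl G := by
  classical
  haveI := π.faithful_dual S.inv
  obtain ⟨p, hp, hexp, -, n, hn⟩ := full_exponent S.inv h
  letI act : MulAction (stabilizer G l) {X // π.mem X l} :=
    { smul := fun g X => ⟨g.1 • X.1, by
        have := π.mem_smul S.inv (g := g.1) X.2
        rwa [show g.1 • l = l from g.2] at this⟩
      one_smul := fun X => Subtype.ext (one_smul G X.1)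
      mul_smul := fun a b X => Subtype.ext (mul_smul a.1 b.1 X.1) }
  have hfix : ∀ X : {X // π.mem X l}, ∃ g : stabilizer G l, g ^ p = 1 ∧ ∀ Y, g • Y = Y ↔ Y = X := by
    rintro ⟨X, hX⟩
    obtain ⟨l', hne, hl', hXl'⟩ := hgood X hX
    obtain ⟨a, ha1, ha⟩ := h X hX
    obtain ⟨f, hf1, hf⟩ := hl' X hXl'
    have hXfull : π.dual.Full G X :=
      full_of_two S.dual (π.isEl_dual.mpr ha) ha1 (π.isEl_dual.mpr hf) hf1 hne.symm
    obtain ⟨q, hq, hq', -, -⟩ := full_exponent S.dual.inv hXfull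
    haveI := Fact.mk hp
    haveI := Fact.mk hq
    have hpq : p = q := (orderOf_eq_prime (hexp _ _ ha) ha1).symm.trans
      (orderOf_eq_prime (hq' _ _ (π.isEl_dual.mpr ha)) ha1)
    refine ⟨⟨f, hf.2.1 l hX⟩, Subtype.ext (hpq ▸ hq' _ _ (π.isEl_dual.mpr hf)), fun Y => ⟨fun e => ?_, ?_⟩⟩
    · have hY : π.mem Y.1 l' := by_contra fun hn => hf1 (π.el_fix_off S.inv hf hn (congrArg Subtype.val e))
      exact Subtype.ext (π.eq_point hne.symm Y.2 hY hX hXl')
    · rintro rfl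
      exact Subtype.ext (hf.1 X hXl')
  have htrans := orbit_of_fix_one hp hfix
  obtain ⟨X, hX, -, -⟩ := π.exists_third l (π.meet l l) (π.meet l l)
  let K : ∀ (Y : P), π.mem Y l → Subgroup G := fun Y hY =>
    { carrier := {g | π.IsEl g Y l}
      one_mem' := π.isEl_one hY
      mul_mem' := fun ha hb => ⟨π.axisFix_mul ha.1 hb.1, π.centreFix_mul ha.2.1 hb.2.1, hY⟩
      inv_mem' := fun ha => π.isEl_inv ha }
  set t := Nat.card (K X hX) with ht
  have hKt : ∀ Y hY, Nat.card (K Y hY) = t := fun Y hY => by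
    obtain ⟨k, hk⟩ := htrans ⟨X, hX⟩ ⟨Y, hY⟩
    have e : k.1 • X = Y := congrArg Subtype.val hk
    have hl : k.1 • l = l := k.2
    have f1 : ∀ g : K X hX, k.1 * g.1 * k.1⁻¹ ∈ K Y hY := fun g => by
      have := π.isEl_conj S.inv (show π.IsEl g.1 X l from g.2) k.1
      rw [e, hl] at this
      exact this
    have f2 : ∀ g : K Y hY, k.1⁻¹ * g.1 * k.1 ∈ K X hX := fun g => by
      have := π.isEl_conj S.inv (show π.IsEl g.1 Y l from g.2) k.1⁻¹
      rw [inv_smul_eq_iff.mpr e.symm, inv_smul_eq_iff.mpr hl.symm, inv_inv] at this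
      exact this
    exact (Nat.card_congr ⟨fun g => ⟨_, f1 g⟩, fun g => ⟨_, f2 g⟩,
      fun g => Subtype.ext (by simp [mul_assoc]), fun g => Subtype.ext (by simp [mul_assoc])⟩).symm
  obtain ⟨g₀, hg₀1, hg₀⟩ := h X hX
  obtain ⟨i, hi⟩ : ∃ i, t = p ^ i := by
    haveI := Fact.mk hp
    exact (show IsPGroup p (K X hX) from fun g => ⟨1, Subtype.ext (by simpa using hexp g.1 X g.2)⟩).exists_card_eq
  have hi0 : i ≠ 0 := fun e => hg₀1 (by
    rw [e, pow_zero, ht] at hi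
    exact (Subgroup.eq_bot_iff_forall _).mp ((K X hX).eq_bot_of_card_eq hi) g₀ hg₀)
  -- semiregularity on a further line through `X`
  have htr : t ∣ π.order := by
    obtain ⟨l', hne, -, hXl'⟩ := hgood X hX
    letI : MulAction (K X hX) {q // π.mem q l' ∧ q ≠ X} :=
      { smul := fun g q => ⟨g.1 • q.1, by
          have := π.mem_smul S.inv (g := g.1) q.2.1
          rwa [g.2.2.1 l' hXl'] at this, fun e => q.2.2
            (MulAction.injective g.1 (e.trans (π.smul_centre S.inv g.2.2.1).symm))⟩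
        one_smul := fun q => Subtype.ext (one_smul G q.1)
        mul_smul := fun a b q => Subtype.ext (mul_smul a.1 b.1 q.1) }
    have hfree : ∀ q : {q // π.mem q l' ∧ q ≠ X}, stabilizer (K X hX) q = ⊥ := fun q =>
      (Subgroup.eq_bot_iff_forall _).mpr fun g hg => Subtype.ext (π.el_fix_off S.inv g.2
        (fun e => q.2.2 (π.eq_point hne q.2.1 e hXl' hX)) (congrArg Subtype.val hg))
    haveI := Fintype.ofFinite (MulAction.orbitRel.Quotient (K X hX) {q // π.mem q l' ∧ q ≠ X})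
    have hc := Nat.card_congr (MulAction.selfEquivOrbitsQuotientProd hfree)
    rw [Nat.card_prod] at hc
    have hline : Nat.card {q // π.mem q l' ∧ q ≠ X} = π.order := by
      rw [← Set.coe_setOf, Nat.card_coe_set_eq, show {q | π.mem q l' ∧ q ≠ X} = {q | π.mem q l'} \ {X} from rfl,
        Set.ncard_sdiff_singleton_of_mem (show X ∈ {q | π.mem q l'} from hXl'), π.ncard_line]
      omega
    exact ⟨_, (hline.symm.trans hc).trans (mul_comm _ _)⟩
  -- counting the elations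
  have hsum : p ^ n = (π.order + 1) * (t - 1) + 1 := by
    haveI := Fintype.ofFinite {Y // π.mem Y l}
    have hcnt : ∀ Y : {Y // π.mem Y l}, Nat.card {g : G // π.IsEl g Y.1 l ∧ g ≠ 1} = t - 1 := fun Y => by
      rw [← hKt Y.1 Y.2, ← SetLike.coe_sort_coe, Nat.card_coe_set_eq,
        ← Set.ncard_sdiff_singleton_of_mem (one_mem (K Y.1 Y.2)), ← Nat.card_coe_set_eq]
      rfl
    let φ : (Σ Y : {Y // π.mem Y l}, {g : G // π.IsEl g Y.1 l ∧ g ≠ 1}) →
        {g : π.elAxis S.inv l // g ≠ 1} :=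
      fun s => ⟨⟨s.2.1, s.1.1, s.2.2.1⟩, fun e => s.2.2.2 (congrArg Subtype.val e)⟩
    have hφ : Function.Bijective φ := by
      refine ⟨fun ⟨⟨Y, hY⟩, g, hg, hg1⟩ ⟨⟨Y', hY'⟩, g', hg', hg1'⟩ e => ?_, fun ⟨⟨g, Y, hg⟩, hg1⟩ => ?_⟩
      · obtain rfl : g = g' := congrArg (fun s : {g : π.elAxis S.inv l // g ≠ 1} => s.1.1) e
        obtain rfl := π.centre_unique S.inv hg1 hg.2.1 hg'.2.1
        rfl
      · exact ⟨⟨⟨Y, hg.2.2⟩, g, hg, fun e => hg1 (Subtype.ext e)⟩, rfl⟩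
    have h1 := Nat.card_congr (Equiv.ofBijective φ hφ)
    rw [Nat.card_sigma, Finset.sum_congr rfl fun Y _ => hcnt Y, Finset.sum_const, Finset.card_univ,
      smul_eq_mul, ← Nat.card_eq_fintype_card, ← Set.coe_setOf, Nat.card_coe_set_eq, π.ncard_line] at h1
    rw [h1, ← hn]
    have h2 : ({1}ᶜ : Set (π.elAxis S.inv l)).ncard + 1 = Nat.card (π.elAxis S.inv l) := by
      rw [add_comm, ← Set.ncard_singleton (1 : π.elAxis S.inv l)]
      exact Set.ncard_add_ncard_compl _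
    rw [← h2, ← Nat.card_coe_set_eq]
    rfl
  have hsq : t * t ≤ p ^ n := by
    obtain ⟨Y, hY, hYX, -⟩ := π.exists_third l X X
    calc t * t = Nat.card (K X hX × K Y hY) := by rw [Nat.card_prod, hKt Y hY]
      _ ≤ Nat.card (π.elAxis S.inv l) := by
        refine Nat.card_le_card_of_injective
          (fun s : K X hX × K Y hY => (⟨s.1.1 * s.2.1,
            mul_mem (show s.1.1 ∈ π.elAxis S.inv l from ⟨X, s.1.2⟩) ⟨Y, s.2.2⟩⟩ : π.elAxis S.inv l))
          fun s s' e => ?_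
        have e' : s.1.1 * s.2.1 = s'.1.1 * s'.2.1 := congrArg Subtype.val e
        have e'' : s'.1.1⁻¹ * s.1.1 = s'.2.1 * s.2.1⁻¹ := by
          rw [inv_mul_eq_iff_eq_mul, ← mul_assoc, ← e']
          group
        have hK : s'.1.1⁻¹ * s.1.1 = 1 := by
          by_contra hne
          refine hYX (π.centre_unique S.inv hne (e'' ▸ π.centreFix_mul s'.2.2.2.1 (π.centreFix_inv s.2.2.2.1))
            (π.centreFix_mul (π.centreFix_inv s'.1.2.2.1) s.1.2.2.1))
        have h1 : s'.1.1 = s.1.1 := inv_mul_eq_one.mp hK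
        rw [h1] at e'
        exact Prod.ext (Subtype.ext h1.symm) (Subtype.ext (mul_left_cancel e'))
      _ = p ^ n := hn
  obtain ⟨m, hm⟩ := htr
  have hni : i + i ≤ n := by
    rw [hi, ← pow_add] at hsq
    exact (Nat.pow_le_pow_iff_right hp.one_lt).mp hsq
  have hdvd := π.card_elAxis_dvd S.inv l
  rw [hn, hm, hi] at hdvd
  rw [hm, hi] at hsum
  obtain ⟨j, rfl⟩ : ∃ j, n = i + j := ⟨n - i, by omega⟩
  have ht1 : 1 ≤ p ^ i := Nat.one_le_pow _ _ hp.pos
  have h3 : p ^ i * (p ^ j + m) = p ^ i * (m * p ^ i + 1) := by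
    obtain ⟨u, hu⟩ : ∃ u, p ^ i = u + 1 := ⟨p ^ i - 1, by omega⟩
    rw [pow_add, hu, Nat.add_sub_cancel] at hsum
    rw [hu]
    linarith
  have h4 : p ^ j + m = m * p ^ i + 1 := Nat.eq_of_mul_eq_mul_left (by omega) h3
  have hcop : Nat.Coprime p m := (Nat.Prime.coprime_iff_not_dvd hp).mpr fun hd => hp.not_dvd_one
    ((Nat.dvd_add_right (hd.mul_right (p ^ i))).mp
      (h4 ▸ Nat.dvd_add (dvd_pow_self p (by omega)) hd))
  have hle : p ^ (i + j) ∣ (p ^ i) ^ 2 :=
    (Nat.Coprime.pow (i + j) 2 hcop).dvd_of_dvd_mul_right (by rwa [mul_pow] at hdvd)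
  rw [← pow_mul, Nat.pow_dvd_pow_iff_le_right hp.one_lt] at hle
  obtain rfl : j = i := by omega
  have hm1 : m = 1 := by
    have hp2 : 2 ≤ p ^ j := hp.two_le.trans (Nat.le_self_pow hi0 p)
    rcases Nat.lt_or_ge m 2 with hlt | hge
    · interval_cases m
      · omega
      · rfl
    · nlinarith
  exact ⟨p, j, hp, by rw [hm, hi, hm1, mul_one], g₀, X, l, hg₀1, hexp _ _ hg₀, hg₀⟩

theorem powerEl_of_full {l : L} (h : π.Full G l) : π.PowerEl G := by
  haveI := π.faithful_dual S.inv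
  by_cases hA : ∀ (g : G) (Z : P) (M : L), ¬ π.mem Z l → π.IsHom g Z M → M = l
  · refine powerEl_of_homs S h fun Z hZ => ?_
    obtain ⟨g, M, hg⟩ := point_centre S Z
    exact ⟨g, hA g Z M hZ hg ▸ hg⟩
  by_cases hgood : ∀ X, π.mem X l → ∃ l', l' ≠ l ∧ π.Full G l' ∧ π.mem X l'
  · exact powerEl_of_trans S h hgood
  simp only [not_forall, not_exists, not_and] at hgood hA
  obtain ⟨X', hX', hbad⟩ := hgood
  obtain ⟨g, Z, M₀, hZ, hg, hne⟩ := hA
  have hgl : g • l ≠ l := fun e => by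
    rcases line_fix_hom S hg e with e' | e'
    · exact hne e'.symm
    · exact hZ e'
  set X₀ := π.meet l (g • l)
  have hL₀ := full_conj S.inv h g
  have key : ∀ {X X'' : P} {L₁ M : L} {f : G} {W : P}, π.mem X l → π.Full G L₁ → L₁ ≠ l → π.mem X L₁ →
      (∀ l', l' ≠ l → π.Full G l' → ¬ π.mem X'' l') → π.mem X'' M → π.mem X'' l → M ≠ l →
      π.IsHom f W M → W = X := by
    intro X X'' L₁ M f W hX hL₁ hne₁ hXL₁ hb hXM hXl hMl hf
    have hW : π.mem W l := by_contra fun hWl => by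
      have hfl : f • l ≠ l := fun e => (line_fix_hom S hf e).elim (fun e' => hMl e'.symm) hWl
      refine hb _ hfl (full_conj S.inv h f) ?_
      rw [← hf.2.2.1 X'' hXM]
      exact π.mem_smul S.inv hXl
    by_contra hWX
    have hXL : ¬ π.mem X'' L₁ := hb L₁ hne₁ hL₁
    have hML : M ≠ L₁ := fun e => hXL (e ▸ hXM)
    set Q := π.meet M L₁
    have hQl : ¬ π.mem Q l := fun e => hXL (π.eq_point hMl hXM hXl (π.meet_left M L₁) e ▸ π.meet_right M L₁)
    obtain ⟨a, ha1, ha⟩ := hL₁ Q (π.meet_right M L₁)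
    have haW : a • W ≠ W := fun e => ha1 (π.el_fix_off S.inv ha
      (fun e' => hWX (π.eq_point hne₁ e' hW hXL₁ hX)) e)
    have hf' := π.isHom_conj S.inv hf a
    rw [ha.2.1 M (π.meet_left M L₁)] at hf'
    obtain ⟨hb1, D, hD⟩ := π.hom_mul_isEl S.inv hf hf' (Ne.symm haW)
    have hQW : Q ≠ W := fun e => hQl (e ▸ hW)
    have haWline : π.mem (a • W) (π.line Q W) := by
      have := π.mem_smul S.inv (g := a) (π.right_mem Q W)
      rwa [ha.2.1 _ (π.left_mem Q W)] at this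
    have hDline : π.mem D (π.line Q W) := el_line_fix S.inv hD hb1 (by
      rw [mul_smul, hf'.2.2.2.1 _ haWline, hf.2.2.2.1 _ (π.right_mem Q W)])
    have hDQ : D = Q := π.eq_point (fun e : M = π.line Q W => hf.2.2.2.2 (by rw [e]; exact π.right_mem Q W)) hD.2.2 hDline
      (π.meet_left M L₁) (π.left_mem Q W)
    have hmove : (f * (a * f * a⁻¹)) • l ≠ l := fun e =>
      hQl (hDQ ▸ el_line_fix S.inv hD hb1 e)
    refine hb _ hmove (full_conj S.inv h _) ?_
    rw [← hD.1 X'' hXM]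
    exact π.mem_smul S.inv hXl
  have hX₀l : π.mem X₀ l := π.meet_left _ _
  have hbad' : ∀ l', l' ≠ l → π.Full G l' → ¬ π.mem X' l' := hbad
  have hX'X₀ : X' ≠ X₀ := fun e => hbad' _ hgl hL₀ (e ▸ π.meet_right _ _)
  obtain ⟨B, hB⟩ := π.exists_notMem l
  have hM₁ : π.line X' B ≠ l := fun e => hB (e ▸ π.right_mem X' B)
  obtain ⟨f₁, W₁, hf₁⟩ := line_axis S (π.line X' B)
  have huniq : ∀ X l', π.mem X l → l' ≠ l → π.Full G l' → π.mem X l' → X = X₀ := fun X l' hX h1 h2 h3 =>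
    (key hX h2 h1 h3 hbad' (π.left_mem _ _) hX' hM₁ hf₁).symm.trans
      (key hX₀l hL₀ hgl (π.meet_right _ _) hbad' (π.left_mem _ _) hX' hM₁ hf₁)
  obtain ⟨a, ha1, ha⟩ := h X₀ hX₀l
  obtain ⟨b, hb1, hb⟩ := hL₀ X₀ (π.meet_right _ _)
  have hfull : π.dual.Full G X₀ :=
    full_of_two S.dual (π.isEl_dual.mpr ha) ha1 (π.isEl_dual.mpr hb) hb1 hgl.symm
  obtain ⟨p, k, hp, hk, e, C, m, he1, hep, he⟩ := powerEl_of_homs S.dual hfull fun M (hM : ¬ π.mem X₀ M) => by
    have hMl : M ≠ l := fun e => hM (e ▸ hX₀l)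
    obtain ⟨f, W, hf⟩ := line_axis S M
    have hne' : π.meet M l ≠ X₀ := fun e => hM (e ▸ π.meet_left M l)
    have hW : W = X₀ := key hX₀l hL₀ hgl (π.meet_right _ _)
      (fun l' h1 h2 h3 => hne' (huniq _ l' (π.meet_right M l) h1 h2 h3)) (π.meet_left M l)
      (π.meet_right M l) hMl hf
    exact ⟨f, π.isHom_dual.mpr (hW ▸ hf)⟩
  exact ⟨p, k, hp, π.dual_order ▸ hk, e, m, C, he1, hep, π.isEl_dual.mp he⟩

theorem HomSys.powerEl : π.PowerEl G := by
  haveI := π.faithful_dual S.inv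
  rcases exists_full S with ⟨l, h⟩ | ⟨X, h⟩
  · exact powerEl_of_full S h
  · obtain ⟨p, k, hp, hk, e, C, m, he1, hep, he⟩ := powerEl_of_full S.dual h
    exact ⟨p, k, hp, π.dual_order ▸ hk, e, m, C, he1, hep, π.isEl_dual.mp he⟩

end CfsgLib.OWagner.Pl
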