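import Cfsg.Agent.Lib.OWagner.Setting
import Cfsg.Agent.Lib.OWagner.Translation
import Mathlib

/-!
A two-transitive plane without perspectivities has odd order, and its maximal planar two-subgroups
give systems of homologies on their subplanes; so the order is a prime power and some element of
that prime order fixes two points.
-/

set_option autoImplicit false
set_option linter.unusedSectionVars false

namespace CfsgLib.OWagner.Pl

open MulAction

variable {P L G : Type*} [Group G] [MulAction G P] [MulAction G L] [Finite P] [Finite L] [Finite G]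

theorem exists_two_fixed (π : Pl P L) (hG : π.Inv G) {g : G} (hg : ∀ p : P, g • g • p = p) :
    ∃ a b : P, a ≠ b ∧ g • a = a ∧ g • b = b := by
  by_cases hne : ∃ p : P, g • p ≠ p
  · rcases π.involution_cases hG hg hne with ⟨l, hl⟩ | ⟨hU, -⟩
    · obtain ⟨a, ha, -, -⟩ := π.exists_third l (π.meet l l) (π.meet l l)
      obtain ⟨b, hb, hne', -⟩ := π.exists_third l a a
      exact ⟨a, b, hne'.symm, hl a ha, hl b hb⟩
    · obtain ⟨a, b, c, d, hq, hf⟩ := hU
      exact ⟨a, b, (π.quad_ne hq).1, (hf g (Subgroup.mem_zpowers g)).1, (hf g (Subgroup.mem_zpowers g)).2.1⟩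
  · simp only [not_exists, not_not] at hne
    obtain ⟨a, b, c, d, hq⟩ := π.exists_quad
    exact ⟨a, b, (π.quad_ne hq).1, hne a, hne b⟩

theorem order_eq_of_card {P' L' : Type*} [Finite P'] [Finite L'] (π : Pl P L) (π' : Pl P' L')
    (h : Nat.card P = Nat.card P') : π.order = π'.order := by
  rw [π.card_points, π'.card_points] at h
  rcases lt_trichotomy π.order π'.order with h1 | h1 | h1
  · have := Nat.pow_lt_pow_left h1 two_ne_zero
    omega
  · exact h1
  · have := Nat.pow_lt_pow_left h1 two_ne_zero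
    omega

theorem order_pow (π : Pl P L) (hG : π.Inv G) [FaithfulSMul G P] (U : Subgroup G) (hU : IsPGroup 2 U)
    (hq : π.QuadFix U) : ∃ N, π.order = (π.fixedPl hG U hq).order ^ N := by
  haveI := Fact.mk Nat.prime_two
  obtain ⟨i, hi⟩ := hU.exists_card_eq
  induction i generalizing U with
  | zero =>
    obtain rfl : U = ⊥ := U.eq_bot_of_card_eq (by rw [hi, pow_zero])
    refine ⟨1, ?_⟩
    rw [pow_one]
    exact order_eq_of_card π _ (Nat.card_congr (Equiv.subtypeUnivEquiv fun x u hu => by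
      rw [Subgroup.mem_bot] at hu
      rw [hu, one_smul]).symm)
  | succ i ih =>
    obtain ⟨K, hK⟩ := Sylow.exists_subgroup_card_pow_prime (G := U) 2 (n := i)
      (by rw [hi]; exact pow_dvd_pow 2 (Nat.le_succ i))
    have hidx : K.index = 2 := by
      have h := K.index_mul_card
      rw [hK, hi, pow_succ, mul_comm (2 ^ i) 2] at h
      exact Nat.eq_of_mul_eq_mul_right (Nat.two_pow_pos i) h
    haveI := Subgroup.normal_of_index_eq_two hidx
    set M := K.map U.subtype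
    have hMU : M ≤ U := Subgroup.map_subtype_le K
    have hMc : Nat.card M = 2 ^ i := by
      rw [Subgroup.card_map_of_injective U.subtype_injective, hK]
    obtain ⟨N, hN⟩ := ih M (hU.to_le hMU) (π.quadFix_mono hMU hq) hMc
    obtain ⟨x, hx⟩ : ∃ x : U, x ∉ K := by
      by_contra hall
      simp only [not_exists, not_not] at hall
      rw [show K = ⊤ from (Subgroup.eq_top_iff' K).mpr hall, Subgroup.index_top] at hidx
      omega
    have hxN : (x : G) ∈ Subgroup.normalizer (M : Set G) := by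
      refine Subgroup.mem_normalizer_iff.mpr fun g => ⟨?_, ?_⟩
      · rintro ⟨k, hk, rfl⟩
        exact ⟨x * k * x⁻¹, Subgroup.Normal.conj_mem ‹K.Normal› k hk x, rfl⟩
      · rintro ⟨k, hk, e⟩
        refine ⟨x⁻¹ * k * x, Subgroup.Normal.conj_mem' ‹K.Normal› k hk x, ?_⟩
        simp only [map_mul, map_inv, Subgroup.coe_subtype] at e ⊢
        rw [e]
        group
    set σ := π.fixedPl hG M (π.quadFix_mono hMU hq)
    have hσ := π.inv_fixedPl hG M (π.quadFix_mono hMU hq)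
    set x' : Subgroup.normalizer (M : Set G) := ⟨x, hxN⟩
    have hxx : ∀ p : Fix M P, x' • x' • p = p := fun p => Subtype.ext (by
      show (x : G) • (x : G) • p.1 = p.1
      rw [← mul_smul]
      exact p.2 _ ⟨x * x, Subgroup.mul_self_mem_of_index_two hidx x, rfl⟩)
    have hdec : ∀ p : P, (∀ u ∈ M, u • p = p) → (x : G) • p = p → ∀ u ∈ U, u • p = p := by
      intro p hp hxp u hu
      by_cases huK : (⟨u, hu⟩ : U) ∈ K
      · exact hp u ⟨_, huK, rfl⟩
      · have h1 : x⁻¹ * ⟨u, hu⟩ ∈ K :=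
          (Subgroup.mul_mem_iff_of_index_two hidx).mpr (by simp [hx, huK])
        have h2 := hp _ ⟨_, h1, rfl⟩
        simp only [map_mul, map_inv, Subgroup.coe_subtype, mul_smul] at h2
        rw [inv_smul_eq_iff, hxp] at h2
        exact h2
    obtain ⟨a, b, c, d, hquad, hf⟩ := id hq
    by_cases hmove : ∃ p : Fix M P, x' • p ≠ p
    · rcases σ.involution_cases hσ hxx hmove with ⟨l, hl⟩ | ⟨hV, hord⟩
      · exfalso
        obtain ⟨C, hC⟩ := σ.exists_centre hσ hl
        have on : ∀ y : P, (∀ u ∈ U, u • y = y) → π.mem y l.1 ∨ y = C.1 := fun y hy => by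
          refine or_iff_not_imp_left.mpr fun hyl => ?_
          exact congrArg Subtype.val (σ.fix_off_axis_eq hσ hl hC hmove
            (Z := ⟨y, fun u hu => hy u (hMU hu)⟩) hyl (Subtype.ext (hy x x.2)))
        obtain ⟨hab, hac, had, hbc, hbd, hcd⟩ := π.quad_ne hquad
        obtain ⟨h1, h2, h3, h4⟩ := hquad
        rcases on a (fun u hu => (hf u hu).1) with oa | oa <;>
          rcases on b (fun u hu => (hf u hu).2.1) with ob | ob <;>
          rcases on c (fun u hu => (hf u hu).2.2.1) with oc | oc <;>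
          rcases on d (fun u hu => (hf u hu).2.2.2) with od | od <;>
          first
            | exact h1 ⟨_, oa, ob, oc⟩
            | exact h2 ⟨_, oa, ob, od⟩
            | exact h3 ⟨_, oa, oc, od⟩
            | exact h4 ⟨_, ob, oc, od⟩
            | exact hab (oa.trans ob.symm)
            | exact hac (oa.trans oc.symm)
            | exact had (oa.trans od.symm)
            | exact hbc (ob.trans oc.symm)
            | exact hbd (ob.trans od.symm)
            | exact hcd (oc.trans od.symm)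
      · refine ⟨2 * N, ?_⟩
        have heq : (σ.fixedPl hσ _ hV).order = (π.fixedPl hG U hq).order := by
          refine order_eq_of_card _ _ (Nat.card_congr
            ⟨fun p => ⟨p.1.1, hdec p.1.1 p.1.2
                (congrArg Subtype.val (p.2 x' (Subgroup.mem_zpowers x')))⟩,
              fun p => ⟨⟨p.1, fun u hu => p.2 u (hMU hu)⟩, fun u hu =>
                (Subgroup.zpowers_le (H := stabilizer _ (⟨p.1, fun u hu => p.2 u (hMU hu)⟩ : Fix M P))).mpr
                  (Subtype.ext (p.2 x x.2)) hu⟩,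
              fun _ => rfl, fun _ => rfl⟩)
        rw [hN, hord, heq, ← pow_mul]
    · simp only [not_exists, not_not] at hmove
      refine ⟨N, ?_⟩
      rw [hN, order_eq_of_card σ (π.fixedPl hG U hq) (Nat.card_congr
        ⟨fun p => ⟨p.1, hdec p.1 p.2 (congrArg Subtype.val (hmove p))⟩,
          fun p => ⟨p.1, fun u hu => p.2 u (hMU hu)⟩, fun _ => rfl, fun _ => rfl⟩)]

variable (π : Pl P L) [FaithfulSMul G P] (hG : π.Inv G) (h2 : π.TT G) (hno : π.NoPersp G)
include hG h2 hno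

theorem noPersp_dual : π.dual.NoPersp G := fun g C h => by
  obtain ⟨l, hl⟩ := π.exists_axis hG (C := C) h
  exact hno g l hl

omit h2 in
theorem baer {g : G} (hg : g * g = 1) (h1 : g ≠ 1) :
    ∃ hU : π.QuadFix (Subgroup.zpowers g), π.order = (π.fixedPl hG _ hU).order ^ 2 :=
  (π.involution_cases hG (fun p => by rw [← mul_smul, hg, one_smul]) (π.exists_moved hG h1)).resolve_left
    fun ⟨l, hl⟩ => h1 (hno g l hl)

omit hno in
theorem two_dvd_group : 2 ∣ Nat.card G := by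
  obtain ⟨a, b, c, d, hq⟩ := π.exists_quad
  rw [π.card_group h2 (π.quad_ne hq).1, π.card_points_sub]
  exact ((Nat.even_mul_succ_self π.order).two_dvd.mul_left _).mul_right _

theorem order_odd : Odd π.order := by
  haveI := Fact.mk Nat.prime_two
  by_contra hev
  rw [Nat.not_odd_iff_even] at hev
  obtain ⟨S⟩ := (inferInstance : Nonempty (Sylow 2 G))
  have hv : Odd (Nat.card P) := by
    rw [π.card_points]
    exact ((hev.pow_of_ne_zero two_ne_zero).add hev).add_one
  obtain ⟨a, ha⟩ := S.isPGroup'.nonempty_fixed_point_of_prime_not_dvd_card P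
    hv.not_two_dvd_nat
  have ha' : ∀ g ∈ S.1, g • a = a := fun g hg => ha ⟨g, hg⟩
  letI : MulAction S.1 {l // π.mem a l} :=
    { smul := fun g l => ⟨g.1 • l.1, by
        have := π.mem_smul hG (g := g.1) l.2
        rwa [ha' g.1 g.2] at this⟩
      one_smul := fun l => Subtype.ext (one_smul G l.1)
      mul_smul := fun g h l => Subtype.ext (mul_smul g.1 h.1 l.1) }
  obtain ⟨⟨l, hal⟩, hl⟩ := S.isPGroup'.nonempty_fixed_point_of_prime_not_dvd_card {l // π.mem a l} (by
    rw [← Set.coe_setOf, Nat.card_coe_set_eq, π.ncard_pencil]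
    exact hev.add_one.not_two_dvd_nat)
  have hl' : ∀ g ∈ S.1, g • l = l := fun g hg => congrArg Subtype.val (hl ⟨g, hg⟩)
  have hS1 : S.1 ≠ ⊥ := S.ne_bot_of_dvd_card (π.two_dvd_group hG h2)
  haveI : Nontrivial S.1 := (Subgroup.nontrivial_iff_ne_bot _).mpr hS1
  haveI := S.isPGroup'.center_nontrivial
  have hc2 : 2 ∣ Nat.card (Subgroup.center S.1) := by
    obtain ⟨i, hi⟩ := (S.isPGroup'.to_subgroup (Subgroup.center S.1)).exists_card_eq
    rw [hi]
    refine dvd_pow_self 2 fun e => ?_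
    rw [e, pow_zero] at hi
    exact (Finite.one_lt_card (α := Subgroup.center S.1)).ne' hi
  obtain ⟨⟨⟨z, hzS⟩, hzc⟩, hz⟩ := exists_prime_orderOf_dvd_card' 2 hc2
  rw [← Subgroup.orderOf_coe, ← Subgroup.orderOf_coe] at hz
  replace hz : orderOf z = 2 := hz
  have hz2 : z * z = 1 := by rw [← sq, ← hz]; exact pow_orderOf_eq_one z
  have hz1 : z ≠ 1 := fun e => by
    have : orderOf z = 1 := orderOf_eq_one_iff.mpr e
    omega
  obtain ⟨hU, hm⟩ := π.baer hG hno hz2 hz1
  set m := (π.fixedPl hG _ hU).order with hm'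
  set A := {p | π.mem p l ∧ z • p = p ∧ p ≠ a}
  have hA : A.ncard = m := by
    have hlz : ∀ u ∈ Subgroup.zpowers z, u • l = l := fun u hu =>
      (Subgroup.zpowers_le (H := stabilizer G l)).mpr (hl' z hzS) hu
    have h := (π.fixedPl hG _ hU).ncard_line ⟨l, hlz⟩
    have he : {p | π.mem p l ∧ z • p = p}.ncard = m + 1 := by
      rw [hm', ← h, ← Nat.card_coe_set_eq, ← Nat.card_coe_set_eq]
      exact Nat.card_congr
        ⟨fun q => ⟨⟨q.1, fun u hu => (Subgroup.zpowers_le (H := stabilizer G q.1)).mpr q.2.2 hu⟩, q.2.1⟩,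
          fun q => ⟨q.1.1, q.2, q.1.2 z (Subgroup.mem_zpowers z)⟩, fun _ => rfl, fun _ => rfl⟩
    have e : A = {p | π.mem p l ∧ z • p = p} \ {a} := Set.ext fun p =>
      ⟨fun h => ⟨⟨h.1, h.2.1⟩, h.2.2⟩, fun h => ⟨h.1.1, h.1.2, h.2⟩⟩
    rw [e, Set.ncard_sdiff_singleton_of_mem (show a ∈ {p | π.mem p l ∧ z • p = p} from ⟨hal, ha' z hzS⟩), he]
    rfl
  have hinv : ∀ g ∈ S.1, ∀ x ∈ A, g • x ∈ A := fun g hg x ⟨h1, h2, h3⟩ => by
    refine ⟨?_, ?_, fun e => h3 (MulAction.injective g (e.trans (ha' g hg).symm))⟩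
    · have := π.mem_smul hG (g := g) h1
      rwa [hl' g hg] at this
    · have hcomm : g * z = z * g := congrArg Subtype.val (Subgroup.mem_center_iff.mp hzc ⟨g, hg⟩)
      rw [← mul_smul, ← hcomm, mul_smul, h2]
  have key : ∀ k, 2 ^ k ∣ π.order → 2 ^ k ∣ m := fun k hk => hA ▸ π.sylow_dvd h2
    (by rw [π.card_points_sub]; exact hk.mul_right _) S ha' A hinv (fun h => h.2.2 rfl)
  have hm0 : 0 < m := by have := (π.fixedPl hG _ hU).two_le_order; omega
  obtain ⟨a₂, b, hb, hmab⟩ := Nat.exists_eq_two_pow_mul_odd hm0.ne'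
  have := key (2 * a₂) ⟨b ^ 2, by rw [hm, hmab]; ring⟩
  have ha₂ : 1 ≤ a₂ := by
    by_contra h0
    obtain rfl : a₂ = 0 := by omega
    rw [pow_zero, one_mul] at hmab
    rw [hm, Nat.even_pow' two_ne_zero, hmab] at hev
    exact Nat.not_even_iff_odd.mpr hb hev
  rw [hmab] at this
  have h3 : 2 ^ (2 * a₂) ∣ 2 ^ a₂ :=
    (Nat.Coprime.pow_left _ (Nat.coprime_two_left.mpr hb)).dvd_of_dvd_mul_right this
  rw [Nat.pow_dvd_pow_iff_le_right Nat.one_lt_two] at h3
  omega

theorem two_mul_odd : ∃ c, Odd c ∧ π.order + 1 = 2 * c := by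
  haveI := Fact.mk Nat.prime_two
  obtain ⟨g, hg⟩ := exists_prime_orderOf_dvd_card' 2 (π.two_dvd_group hG h2)
  obtain ⟨hU, hm⟩ := π.baer hG hno (g := g) (by rw [← sq, ← hg]; exact pow_orderOf_eq_one g)
    (fun e => by rw [e, orderOf_one] at hg; omega)
  have hodd := π.order_odd hG h2 hno
  rw [hm, Nat.odd_pow_iff two_ne_zero] at hodd
  obtain ⟨i, hi⟩ := hodd
  exact ⟨2 * (i * i + i) + 1, odd_two_mul_add_one _, by rw [hm, hi]; ring⟩

theorem exists_larger (U : Subgroup G) (hU : IsPGroup 2 U) (hq : π.QuadFix U) {X Y : P} (hXY : X ≠ Y)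
    (hfX : ∀ u ∈ U, u • X = X) (hfY : ∀ u ∈ U, u • Y = Y) :
    ∃ T : Subgroup G, U < T ∧ IsPGroup 2 T ∧ ∀ t ∈ T, t • X = X ∧ t • Y = Y := by
  haveI := Fact.mk Nat.prime_two
  set B := stabilizer G X ⊓ stabilizer G Y
  have hUB : U ≤ B := fun u hu => ⟨hfX u hu, hfY u hu⟩
  obtain ⟨S₀, hS₀⟩ := (hU.of_equiv (Subgroup.subgroupOfEquivOfLe hUB).symm).exists_le_sylow
  set T := S₀.1.map B.subtype
  have hUT : U ≤ T := fun u hu => ⟨⟨u, hUB hu⟩, hS₀ (show (⟨u, hUB hu⟩ : B) ∈ U.subgroupOf B from hu), rfl⟩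
  rcases hUT.lt_or_eq with hlt | heq
  · refine ⟨T, hlt, S₀.isPGroup'.map _, ?_⟩
    rintro _ ⟨t, -, rfl⟩
    exact ⟨t.2.1, t.2.2⟩
  exfalso
  obtain ⟨j, hj⟩ := hU.exists_card_eq
  have hS₀c : Nat.card S₀.1 = 2 ^ j := by
    rw [← hj, heq, Subgroup.card_map_of_injective B.subtype_injective]
  obtain ⟨c, hc, hn⟩ := π.two_mul_odd hG h2 hno
  have hnodd := π.order_odd hG h2 hno
  have hv : Odd (Nat.card P) := by
    rw [π.card_points, sq, Nat.odd_add, Nat.odd_add]
    simp [hnodd, Nat.not_even_iff_odd.mpr hnodd, Nat.odd_mul]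
  obtain ⟨S, hS⟩ := hU.exists_le_sylow
  have hSc : Nat.card S.1 = 2 ^ (j + 1) := by
    obtain ⟨i, hi⟩ := S.isPGroup'.exists_card_eq
    have hB := S₀.1.index_mul_card
    have hG' := π.card_group h2 hXY
    rw [π.card_points_sub, hn, ← hB, hS₀c] at hG'
    have h1 : Nat.card G = 2 ^ (j + 1) * (Nat.card P * π.order * c * S₀.1.index) := by
      rw [hG', pow_succ]
      ring
    have hodd : Nat.Coprime 2 (Nat.card P * π.order * c * S₀.1.index) := by
      refine Nat.coprime_two_left.mpr (((hv.mul hnodd).mul hc).mul ?_)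
      exact Nat.odd_iff.mpr (Nat.two_dvd_ne_zero.mp S₀.not_dvd_index)
    have hle : j + 1 ≤ i := by
      have := S.pow_dvd_card_of_pow_dvd_card (h1 ▸ dvd_mul_right _ _)
      rwa [hi, Nat.pow_dvd_pow_iff_le_right Nat.one_lt_two] at this
    have hge : i ≤ j + 1 := by
      have h3 : 2 ^ i ∣ 2 ^ (j + 1) :=
        (Nat.Coprime.pow_left i hodd).dvd_of_dvd_mul_right (h1 ▸ hi ▸ Subgroup.card_subgroup_dvd_card _)
      rwa [Nat.pow_dvd_pow_iff_le_right Nat.one_lt_two] at h3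
    rw [hi, show i = j + 1 by omega]
  have hidx : (U.subgroupOf S.1).index = 2 := by
    have h := (U.subgroupOf S.1).index_mul_card
    rw [Nat.card_congr (Subgroup.subgroupOfEquivOfLe hS).toEquiv, hj, hSc, pow_succ, mul_comm (2 ^ j) 2] at h
    exact Nat.eq_of_mul_eq_mul_right (Nat.two_pow_pos j) h
  haveI := Subgroup.normal_of_index_eq_two hidx
  obtain ⟨a, ha⟩ := S.isPGroup'.nonempty_fixed_point_of_prime_not_dvd_card P hv.not_two_dvd_nat
  have ha' : ∀ g ∈ S.1, g • a = a := fun g hg => ha ⟨g, hg⟩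
  have huniq : ∀ b, (∀ g ∈ S.1, g • b = b) → b = a := fun b hb => by
    by_contra hne
    have := π.sylow_dvd h2 (k := 1) (by rw [π.card_points_sub, hn]; exact ⟨π.order * c, by ring⟩) S ha' {b}
      (fun g hg x hx => by rw [Set.mem_singleton_iff] at hx ⊢; rw [hx, hb g hg]) (fun h => hne h.symm)
    rw [Set.ncard_singleton] at this
    omega
  obtain ⟨⟨x, hxS⟩, hx⟩ : ∃ x : S.1, x ∉ U.subgroupOf S.1 := by
    by_contra hall
    simp only [not_exists, not_not] at hall
    rw [(Subgroup.eq_top_iff' _).mpr hall, Subgroup.index_top] at hidx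
    omega
  have hxN : x ∈ Subgroup.normalizer (U : Set G) :=
    Subgroup.le_normalizer_of_normal_subgroupOf hS hxS
  have hdec : ∀ p : P, (∀ u ∈ U, u • p = p) → x • p = p → ∀ s ∈ S.1, s • p = p := by
    intro p hp hxp s hs
    by_cases hsU : s ∈ U
    · exact hp s hsU
    · have h1 : (⟨x, hxS⟩ : S.1)⁻¹ * ⟨s, hs⟩ ∈ U.subgroupOf S.1 :=
        (Subgroup.mul_mem_iff_of_index_two hidx).mpr
          (iff_of_false (fun h => hx ((Subgroup.inv_mem_iff _).mp h)) hsU)
      have h2 := hp _ (Subgroup.mem_subgroupOf.mp h1)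
      simp only [Subgroup.coe_mul, Subgroup.coe_inv, mul_smul] at h2
      rwa [inv_smul_eq_iff, hxp] at h2
  obtain ⟨p, q, hpq, hp, hq'⟩ := exists_two_fixed (π.fixedPl hG U hq) (π.inv_fixedPl hG U hq)
    (g := ⟨x, hxN⟩) fun p => Subtype.ext (by
      show x • x • p.1 = p.1
      rw [← mul_smul]
      exact p.2 _ (Subgroup.mul_self_mem_of_index_two hidx ⟨x, hxS⟩))
  exact hpq (Subtype.ext ((huniq p.1 (hdec p.1 p.2 (congrArg Subtype.val hp))).trans
    (huniq q.1 (hdec q.1 q.2 (congrArg Subtype.val hq'))).symm))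

theorem pair_lift (U : Subgroup G) (hU : IsPGroup 2 U) (hq : π.QuadFix U)
    (hmax : ∀ V : Subgroup G, U ≤ V → IsPGroup 2 V → π.QuadFix V → V ≤ U) {X Y : P} (hXY : X ≠ Y)
    (hfX : ∀ u ∈ U, u • X = X) (hfY : ∀ u ∈ U, u • Y = Y) :
    ∃ y : G, y ∈ Subgroup.normalizer (U : Set G) ∧ y * y ∈ U ∧ y • X = X ∧ y • Y = Y ∧
      ∃ Z : P, (∀ u ∈ U, u • Z = Z) ∧ y • Z ≠ Z := by
  classical
  haveI := Fact.mk Nat.prime_two
  obtain ⟨T, hUT, hT, hTf⟩ := π.exists_larger hG h2 hno U hU hq hXY hfX hfY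
  haveI := hT.isNilpotent
  set U' := U.subgroupOf T
  have hU' : U' < ⊤ := lt_top_iff_ne_top.mpr fun e => hUT.not_ge (Subgroup.subgroupOf_eq_top.mp e)
  obtain ⟨⟨x, hxT⟩, hxn, hxU⟩ := SetLike.exists_of_lt (normalizerCondition_of_isNilpotent U' hU')
  have hxN : x ∈ Subgroup.normalizer (U : Set G) := by
    refine Subgroup.mem_normalizer_iff.mpr fun g => ⟨fun hg => ?_, fun hg => ?_⟩
    · exact (Subgroup.mem_normalizer_iff.mp hxn ⟨g, hUT.le hg⟩).mp hg
    · have hgT : g ∈ T := by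
        have := mul_mem (mul_mem (inv_mem hxT) (hUT.le hg)) hxT
        rwa [show x⁻¹ * (x * g * x⁻¹) * x = g by group] at this
      exact (Subgroup.mem_normalizer_iff.mp hxn ⟨g, hgT⟩).mpr hg
  obtain ⟨k, hk⟩ := hT ⟨x, hxT⟩
  have hex : ∃ i, x ^ 2 ^ i ∈ U := ⟨k, by
    rw [show x ^ 2 ^ k = 1 from congrArg Subtype.val hk]
    exact one_mem U⟩
  obtain ⟨i, hi⟩ : ∃ i, Nat.find hex = i + 1 := ⟨Nat.find hex - 1, by
    have : Nat.find hex ≠ 0 := fun e => hxU (show x ∈ U by simpa [e] using Nat.find_spec hex)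
    omega⟩
  set y := x ^ 2 ^ i with hy
  have hyU : y ∉ U := Nat.find_min hex (by omega)
  have hyy : y * y ∈ U := by
    have := Nat.find_spec hex
    rwa [hi, pow_succ, pow_mul, sq] at this
  have hyT : y ∈ T := pow_mem hxT _
  have hyN : y ∈ Subgroup.normalizer (U : Set G) := pow_mem hxN _
  refine ⟨y, hyN, hyy, (hTf y hyT).1, (hTf y hyT).2, by_contra fun hcon => hyU ?_⟩
  simp only [not_exists, not_and, not_not] at hcon
  have hzp : IsPGroup 2 (Subgroup.zpowers y) := hT.to_le (Subgroup.zpowers_le.mpr hyT)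
  refine hmax _ le_sup_left (hU.to_sup_of_normal_left' hzp (Subgroup.zpowers_le.mpr hyN)) ?_
    (Subgroup.mem_sup_right (Subgroup.mem_zpowers y))
  obtain ⟨a, b, c, d, hquad, hf⟩ := hq
  have key : ∀ p : P, (∀ u ∈ U, u • p = p) → ∀ v ∈ U ⊔ Subgroup.zpowers y, v • p = p := fun p hp v hv =>
    (sup_le (a := U) (c := stabilizer G p) hp (Subgroup.zpowers_le.mpr (hcon p hp))) hv
  exact ⟨a, b, c, d, hquad, fun v hv => ⟨key a (fun u hu => (hf u hu).1) v hv,
    key b (fun u hu => (hf u hu).2.1) v hv, key c (fun u hu => (hf u hu).2.2.1) v hv,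
    key d (fun u hu => (hf u hu).2.2.2) v hv⟩⟩

theorem exists_prime_elt : ∃ p k, p.Prime ∧ π.order = p ^ k ∧ ∃ (e : G) (X Y : P),
    e ^ p = 1 ∧ e ≠ 1 ∧ X ≠ Y ∧ e • X = X ∧ e • Y = Y := by
  classical
  haveI := Fact.mk Nat.prime_two
  haveI := π.faithful_dual hG
  obtain ⟨U, ⟨hU, hq⟩, hmax'⟩ := (Set.toFinite {V : Subgroup G | IsPGroup 2 V ∧ π.QuadFix V}).exists_maximal
    ⟨⊥, IsPGroup.of_bot, π.quadFix_bot⟩
  have hmax : ∀ V : Subgroup G, U ≤ V → IsPGroup 2 V → π.QuadFix V → V ≤ U :=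
    fun V h1 h2 h3 => hmax' ⟨h2, h3⟩ h1
  set σ := π.fixedPl hG U hq
  have hσ := π.inv_fixedPl hG U hq
  set N := Subgroup.normalizer (U : Set G)
  let K := Img N (Fix U P) (Fix U L)
  haveI hfaith : FaithfulSMul K (Fix U P) := img_faithful σ hσ
  have hσK : σ.Inv K := inv_img σ hσ
  haveI := σ.faithful_dual hσK
  have hnodd := π.order_odd hG h2 hno
  have hrodd : Odd σ.order := by
    have h : π.order % 2 = σ.order % 2 := π.fixedPl_modEq hG U hq hU
    rw [Nat.odd_iff] at hnodd ⊢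
    omega
  -- lifting an element to one of prime power order
  have lift : ∀ (q : ℕ), q.Prime → ∀ k : K, k ^ q = 1 → k ≠ 1 →
      ∃ (y : N) (a : ℕ), y ^ q ^ a = 1 ∧ toImg y = k :=
    fun q hq k hk hk1 => exists_lift toImg_surjective hq hk hk1
  have hinvol : ∀ k : K, k * k = 1 → k ≠ 1 → ∃ C l, σ.IsHom k C l := by
    intro k hk hk1
    rcases σ.involution_cases hσK (g := k) (fun p => by rw [← mul_smul, hk, one_smul])
      (σ.exists_moved hσK hk1) with ⟨l, hl⟩ | ⟨hV, -⟩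
    · obtain ⟨C, hC⟩ := σ.exists_centre hσK hl
      refine ⟨C, l, hk, hk1, hl, hC, fun hCl => ?_⟩
      have h2' : 2 ∣ σ.order ^ 2 := by
        refine dvd_trans ?_ (σ.card_elAxis_dvd hσK l)
        have hmem : k ∈ σ.elAxis hσK l := ⟨C, hl, hC, hCl⟩
        rw [← orderOf_eq_prime (p := 2) (by rw [sq, hk]) hk1, ← Subgroup.orderOf_mk k hmem]
        exact orderOf_dvd_natCard _
      exact Nat.not_even_iff_odd.mpr hrodd (even_iff_two_dvd.mpr (Nat.prime_two.dvd_of_dvd_pow h2'))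
    · exfalso
      obtain ⟨y, a, hya, hyk⟩ := lift 2 Nat.prime_two k (by rw [sq, hk]) hk1
      have hzp : IsPGroup 2 (Subgroup.zpowers (y : G)) := isPGroup_zpowers (congrArg Subtype.val hya)
      have hyU : (y : G) ∈ U := by
        refine hmax _ le_sup_left (hU.to_sup_of_normal_left' hzp (Subgroup.zpowers_le.mpr y.2)) ?_
          (Subgroup.mem_sup_right (Subgroup.mem_zpowers (y : G)))
        obtain ⟨a', b, c, d, hquad, hf⟩ := hV
        have key : ∀ p : Fix U P, k • p = p → ∀ v ∈ U ⊔ Subgroup.zpowers (y : G), v • p.1 = p.1 :=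
          fun p hp v hv => (sup_le (a := U) (c := stabilizer G p.1) p.2
            (Subgroup.zpowers_le.mpr (congrArg Subtype.val (show y • p = p by rw [← toImg_smul (Y := Fix U L)] ; rw [hyk]; exact hp)))) hv
        refine ⟨a'.1, b.1, c.1, d.1, ?_, fun v hv => ?_⟩
        · obtain ⟨hab, hac, had, hbc, hbd, hcd⟩ := σ.quad_ne hquad
          obtain ⟨h1, h2, h3, h4⟩ := hquad
          have aux : ∀ {x y z : Fix U P}, x ≠ y → ¬ σ.Col x y z → ¬ π.Col x.1 y.1 z.1 :=
            fun {x y z} hne hn ⟨l, hx, hy, hz⟩ => hn ⟨⟨l, fun u hu => π.line_fix_of_two hG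
              (fun e => hne (Subtype.ext e)) hx hy (x.2 u hu) (y.2 u hu)⟩, hx, hy, hz⟩
          exact ⟨aux hab h1, aux hab h2, aux hac h3, aux hbc h4⟩
        · have hk' := fun p hp => key p hp v hv
          obtain ⟨k1, k2, k3, k4⟩ := hf k (Subgroup.mem_zpowers k)
          exact ⟨hk' _ k1, hk' _ k2, hk' _ k3, hk' _ k4⟩
      exact hk1 (hyk ▸ toImg_eq_one σ hσ fun p => Subtype.ext (p.2 _ hyU))
  -- the system of homologies
  have hS : σ.HomSys K := by
    refine ⟨hσK, hinvol, fun X Y hXY => ?_, fun k m hkm => ?_⟩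
    · obtain ⟨y, hyN, hyy, hyX, hyY, Z, hZ, hyZ⟩ := π.pair_lift hG h2 hno U hU hq hmax
        (fun e => hXY (Subtype.ext e)) X.2 Y.2
      set g : K := toImg (⟨y, hyN⟩ : N)
      have hg2 : g * g = 1 := by
        rw [← map_mul]
        exact toImg_eq_one σ hσ fun p => Subtype.ext (p.2 _ hyy)
      have hg1 : g ≠ 1 := fun e => hyZ (congrArg Subtype.val
        (show g • (⟨Z, hZ⟩ : Fix U P) = ⟨Z, hZ⟩ by rw [e]; exact one_smul K _))
      obtain ⟨C, l, hh⟩ := hinvol g hg2 hg1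
      refine ⟨g, C, l, hh, ?_⟩
      have fX : g • X = X := Subtype.ext hyX
      have fY : g • Y = Y := Subtype.ext hyY
      by_cases hXl : σ.mem X l
      · by_cases hYl : σ.mem Y l
        · exact Or.inl ⟨hXl, hYl⟩
        · exact Or.inr (Or.inr ⟨(σ.fix_off hσK hh.2.2.1 hh.2.2.2.1 hg1 hYl fY).symm, hXl⟩)
      · have hXC := σ.fix_off hσK hh.2.2.1 hh.2.2.2.1 hg1 hXl fX
        exact Or.inr (Or.inl ⟨hXC.symm, by_contra fun hYl =>
          hXY (hXC.trans (σ.fix_off hσK hh.2.2.1 hh.2.2.2.1 hg1 hYl fY).symm)⟩)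
    · obtain ⟨y, hyN, hyy, hyk, hym, Z, hZ, hyZ⟩ := π.dual.pair_lift (π.inv_dual hG) (π.tt_dual hG h2)
        (π.noPersp_dual hG h2 hno) U hU (π.quadFix_dual hG hq)
        (fun V h1 h2 h3 => hmax V h1 h2 (π.dual.quadFix_dual (π.inv_dual hG) h3))
        (fun e => hkm (Subtype.ext e)) k.2 m.2
      set g : K := toImg (⟨y, hyN⟩ : N)
      have hg2 : g * g = 1 := by
        rw [← map_mul]
        exact toImg_eq_one σ hσ fun p => Subtype.ext (p.2 _ hyy)
      have hg1 : g ≠ 1 := fun e => hyZ (congrArg Subtype.val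
        (show g • (⟨Z, hZ⟩ : Fix U L) = ⟨Z, hZ⟩ by rw [e]; exact one_smul K _))
      obtain ⟨C, l, hh⟩ := hinvol g hg2 hg1
      refine ⟨g, C, l, hh, ?_⟩
      have fk : g • k = k := Subtype.ext hyk
      have fm : g • m = m := Subtype.ext hym
      by_cases hCk : σ.mem C k
      · by_cases hCm : σ.mem C m
        · exact Or.inl ⟨hCk, hCm⟩
        · exact Or.inr (Or.inr ⟨(σ.dual.fix_off (σ.inv_dual hσK) (l := C) hh.2.2.2.1 hh.2.2.1 hg1 hCm fm).symm,
            hCk⟩)
      · have hkl := σ.dual.fix_off (σ.inv_dual hσK) (l := C) hh.2.2.2.1 hh.2.2.1 hg1 hCk fk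
        exact Or.inr (Or.inl ⟨hkl.symm, by_contra fun hCm =>
          hkm (hkl.trans (σ.dual.fix_off (σ.inv_dual hσK) (l := C) hh.2.2.2.1 hh.2.2.1 hg1 hCm fm).symm)⟩)
  obtain ⟨p, k, hp, hk, e, C, l, he1, hep, he⟩ := hS.powerEl
  obtain ⟨N₀, hN₀⟩ := order_pow π hG U hU hq
  obtain ⟨y, a, hya, hye⟩ := lift p hp e hep he1
  obtain ⟨X, hX, -, -⟩ := σ.exists_third l (σ.meet l l) (σ.meet l l)
  obtain ⟨Y, hY, hne, -⟩ := σ.exists_third l X X
  have hy1 : (y : G) ≠ 1 := fun e' => he1 (by rw [← hye, Subtype.ext (a2 := (1 : N)) e', map_one])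
  obtain ⟨b, -, hb⟩ := (Nat.dvd_prime_pow hp).mp (orderOf_dvd_of_pow_eq_one
    (show (y : G) ^ p ^ a = 1 from congrArg Subtype.val hya))
  obtain ⟨b, rfl⟩ : ∃ b', b = b' + 1 := ⟨b - 1, by
    rcases Nat.eq_zero_or_pos b with rfl | h
    · exact absurd (orderOf_eq_one_iff.mp (hb.trans (pow_zero p))) hy1
    · omega⟩
  have hfix : ∀ Z : Fix U P, σ.mem Z l → (y : G) ^ p ^ b • Z.1 = Z.1 := fun Z hZ =>
    pow_mem (S := stabilizer G Z.1) (show (y : G) ∈ stabilizer G Z.1 from congrArg Subtype.val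
      (show y • Z = Z by rw [← toImg_smul (Y := Fix U L), hye]; exact he.1 Z hZ)) _
  refine ⟨p, k * N₀, hp, by rw [hN₀, hk, ← pow_mul], (y : G) ^ p ^ b, X.1, Y.1, ?_, ?_,
    fun e' => hne (Subtype.ext e'.symm), hfix X hX, hfix Y hY⟩
  · rw [← pow_mul, ← pow_succ, ← hb, pow_orderOf_eq_one]
  · refine pow_ne_one_of_lt_orderOf (pow_ne_zero _ hp.ne_zero) ?_
    rw [hb]
    exact Nat.pow_lt_pow_right hp.one_lt (Nat.lt_succ_self b)

end CfsgLib.OWagner.Pl
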